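import Cfsg.Agent.Lib.SteinbergChar.Roots

/-!
Steinberg characters of subgroups of the isometry group of a polar space which contain the unipotent
radical and move the base chamber to its opposite.
-/

set_option autoImplicit false
set_option linter.style.haveILetI false

namespace Cfsg.Agent.Lib.SteinbergChar

open Module
open Cfsg.Agent.Lib.Forms

/-- A group has a Steinberg character for the prime `p`: an irreducible character of degree the order
of a Sylow `p`-subgroup, vanishing on the non-identity elements of the latter. -/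
def HasSteinberg (p : ℕ) (G : Type*) [Group G] : Prop :=
  ∃ χ : G → ℂ, Cfsg.IsIrrCharacter G χ ∧
    ∀ P : Sylow p G, χ 1 = Nat.card P ∧ ∀ x : G, x ∈ P → x ≠ 1 → χ x = 0

theorem HasSteinberg.of_equiv {p : ℕ} [Fact p.Prime] {G H : Type*} [Group G] [Group H]
    [Finite H] (e : H ≃* G) (h : HasSteinberg p G) : HasSteinberg p H := by
  obtain ⟨χ, hχ, hP⟩ := h
  refine ⟨χ ∘ e.toMonoidHom, Characters.Basic.isIrrCharacter_comp _ e.surjective hχ, fun P => ?_⟩
  let P' : Sylow p G := P.mapSurjective (f := e.toMonoidHom) e.surjective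
  obtain ⟨h1, h2⟩ := hP P'
  have hcard : Nat.card P' = Nat.card P :=
    (Nat.card_congr (P.1.equivMapOfInjective e.toMonoidHom e.injective).toEquiv).symm
  refine ⟨?_, fun x hx hx1 => h2 (e x) (Subgroup.mem_map_of_mem _ hx) fun h => hx1 ?_⟩
  · rw [Function.comp_apply, map_one, h1, hcard]
  · exact e.injective (h.trans (map_one e).symm)

theorem hasSteinberg_quotient_center {p : ℕ} [Fact p.Prime] {G H : Type*} [Group G] [Group H]
    [Finite H] (e : H ≃* G) (h : HasSteinberg p (G ⧸ Subgroup.center G)) :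
    HasSteinberg p (H ⧸ Subgroup.center H) :=
  h.of_equiv (QuotientGroup.congr _ _ e (by
    ext x
    simp only [Subgroup.mem_map, Subgroup.mem_center_iff, MonoidHom.coe_coe, MulEquiv.coe_toMonoidHom]
    constructor
    · rintro ⟨y, hy, rfl⟩ z
      obtain ⟨z, rfl⟩ := e.surjective z
      rw [← map_mul, ← map_mul, hy z]
    · intro hx
      obtain ⟨y, rfl⟩ := e.surjective x
      exact ⟨y, fun z => e.injective (by rw [map_mul, map_mul, hx (e z)]), rfl⟩))

variable {F V : Type*} [Field F] [Finite F] [AddCommGroup V] [Module F V] [FiniteDimensional F V]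
  {σ : F →+* F} {P : FormPair σ V} {m : ℕ}

namespace Frame

variable (Fr : Frame P m)

theorem opp_smul {u : P.isom} (hu : u ∈ Fr.U) {D : Ch P m} (hD : Fr.Opp D) : Fr.Opp (u • D) := by
  intro i hi
  refine le_bot_iff.1 fun z ⟨hz, hz'⟩ => ?_
  rw [SetLike.mem_coe, Ch.smul_sp] at hz
  obtain ⟨y, hy, rfl⟩ := hz
  have hy' : y ∈ perp P (Fr.C i) := fun d hd =>
    (u.2.1 d y).symm.trans (hz' _ (Fr.U_C hu hd))
  rw [(Submodule.mem_bot F).1 ((hD i hi).le ⟨hy, hy'⟩), map_zero]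
  exact zero_mem _

/-- The general form. -/
theorem hasSteinberg_of (p : ℕ) [Fact p.Prime] [CharP F p] (H : Subgroup P.isom) (hUH : Fr.U ≤ H)
    (hmid : ∀ g ∈ H, (∃ k, orderOf g = p ^ k) → g • Fr.C0 = Fr.C0 →
      ∀ w, Fr.IsW w → Fr.pr ((g : V ≃ₗ[F] V) w) = w)
    (hfixed : ∀ h ∈ H, (∀ u ∈ Fr.U, u • h • Fr.C0 = h • Fr.C0) → h • Fr.C0 = Fr.C0)
    (hreach : ∀ f ∈ zeroSums (panels P m), (∀ h ∈ H, f (h • Fr.C0) = 0) → f Fr.X0 = 0)
    (hcentre : ∀ z ∈ H, (∀ h ∈ H, h * z = z * h) → z • Fr.C0 = Fr.C0 → z • Fr.X0 = Fr.X0) :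
    HasSteinberg p (H ⧸ Subgroup.center H) := by
  classical
  letI : Fintype (Ch P m) := Fintype.ofFinite _
  let D : Datum H (Ch P m) :=
    { L := panels P m
      L_smul := fun g ℓ hℓ => panels_smul (g : P.isom) ℓ hℓ
      U := Fr.U.subgroupOf H
      C := Fr.C0
      U_fix := fun u hu => Fr.U_fix (g := (u : P.isom)) hu
      x₀ := Fr.X0
      U_free := fun u hu h => Subtype.ext (Fr.U_free (g := (u : P.isom)) hu h)
      rank := Fr.rank
      asc := fun x hx => Fr.exists_ascent fun hop => by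
        obtain ⟨g, hg, hgx⟩ := Fr.U_trans hop
        exact hx ⟨g, hUH hg⟩ hg hgx
      v := Fr.alt
      v_mem := Fr.alt_mem
      v_x₀ := (Fr.alt_opp Fr.X0_opp).1 rfl
      v_supp := fun u hu hu1 => (Fr.alt_opp (Fr.opp_smul (u := (u : P.isom)) hu Fr.X0_opp)).2
        fun h => hu1 (Subtype.ext (Fr.U_free (g := (u : P.isom)) hu h))
      orbit := fun f hf h => hreach f hf fun g hg => h ⟨g, hg⟩ }
  haveI : Finite H := inferInstance
  have hUz : ∀ z ∈ Subgroup.center H, z • Fr.C0 = Fr.C0 := by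
    intro z hz
    refine hfixed z z.2 fun u hu => ?_
    have h1 := congrArg Subtype.val (Subgroup.mem_center_iff.1 hz ⟨u, hUH hu⟩)
    simp only [Subgroup.coe_mul] at h1
    rw [← mul_smul, h1, mul_smul, Fr.U_fix hu]
  refine D.exists_steinberg p (Subgroup.center H)
    (fun z hz u _ => (Subgroup.mem_center_iff.1 hz u).symm)
    (fun z hz => hcentre z z.2 (fun h hh => congrArg Subtype.val (Subgroup.mem_center_iff.1 hz ⟨h, hh⟩))
      (hUz z hz))
    hUz ((Fr.isPGroup_U p).comap_of_injective H.subtype Subtype.val_injective)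
    fun h hord hfix => ?_
  have hord' : ∃ k, orderOf (h : P.isom) = p ^ k := by
    rwa [Subgroup.orderOf_coe]
  have hC : (h : P.isom) • Fr.C0 = Fr.C0 := hfixed h h.2 fun u hu => hfix ⟨u, hUH hu⟩ hu
  exact Fr.mem_U_of_fix p hord' hC (hmid h h.2 hord' hC)

/-- The case in which the base chamber is the only fixed one. -/
theorem hasSteinberg_thick (p : ℕ) [Fact p.Prime] [CharP F p] (H : Subgroup P.isom)
    (hUH : Fr.U ≤ H)
    (hmid : ∀ g ∈ H, (∃ k, orderOf g = p ^ k) → g • Fr.C0 = Fr.C0 →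
      ∀ w, Fr.IsW w → Fr.pr ((g : V ≃ₗ[F] V) w) = w)
    (hlast : ∀ l : Fin m, (l : ℕ) + 1 = m → ∃ (w₀ : V) (c₀ : F), Fr.IsW w₀ ∧ (w₀ ≠ 0 ∨ c₀ ≠ 0) ∧
      P.N (Fr.f l + w₀ + c₀ • Fr.e l) = 0)
    (hopp : ∃ h ∈ H, h • Fr.C0 = Fr.X0) :
    HasSteinberg p (H ⧸ Subgroup.center H) := by
  obtain ⟨h₀, hh₀, hx₀⟩ := hopp
  refine Fr.hasSteinberg_of p H hUH hmid (fun h _ hfix => ?_)
    (fun f _ hf => hx₀ ▸ hf h₀ hh₀) fun z _ hz hzC => ?_
  · rcases Nat.eq_zero_or_pos m with hm | hm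
    · subst hm
      exact Ch.ext' fun i hi => by rw [Nat.le_zero.1 hi, Ch.sp_zero, Ch.sp_zero]
    · obtain ⟨w₀, c₀, hw, hne, hN⟩ := hlast ⟨m - 1, by omega⟩ (by simp; omega)
      exact Fr.fixed_eq hfix (l := ⟨m - 1, by omega⟩) (by simp; omega) hw hne hN
  · rw [← hx₀, ← mul_smul, ← hz h₀ hh₀, mul_smul, hzC]

/-- The case of thin panels of the last type. -/
theorem hasSteinberg_thin (p : ℕ) [Fact p.Prime] [CharP F p] (H : Subgroup P.isom)
    (hUH : Fr.U ≤ H) (l : Fin m) (hl : (l : ℕ) + 1 = m)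
    (hW : ∀ w, Fr.IsW w → w = 0) (hρ : ∀ r, P.ρ r = 0 → r = 0)
    (hparity : ∀ h ∈ H, h • Fr.C0 ≠ Fr.P0 l)
    (hopp : ∃ h ∈ H, h • Fr.C0 = Fr.X0 ∨ h • Fr.C0 = Fr.X1 l) :
    HasSteinberg p (H ⧸ Subgroup.center H) := by
  classical
  obtain ⟨h₀, hh₀, hx₀⟩ := hopp
  obtain ⟨g, hg⟩ := Fr.exists_swap
  have hgC : g • Fr.C0 = Fr.X0 := hg _
  have hgP : g • Fr.P0 l = Fr.X1 l := by
    rw [hg]
    congr 2
    funext i
    rcases eq_or_ne i l with rfl | hi
    · simp
    · simp [Function.update_of_ne hi]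
  have hne : Fr.X1 l ≠ Fr.X0 := fun h => by
    have h1 := Fr.eq_of_opp (h.symm ▸ Fr.X0_opp)
    have h2 := congrFun (congrArg Prod.snd h1) l
    simp at h2
  have hmem : ∀ {Y : Ch P m}, Y ∈ panel Fr.X0 m → Y = Fr.X0 ∨ Y = Fr.X1 l := by
    intro Y hY
    have hY' : ∀ k < m, (g⁻¹ • Y).sp k = Fr.C k := by
      intro k hk
      have h1 : (g⁻¹ • g • Fr.C0).sp k = (g⁻¹ • Y).sp k := by
        rw [hgC, Ch.smul_sp g⁻¹ Y, Ch.smul_sp g⁻¹ Fr.X0, mem_panel.1 hY k hk.le hk.ne]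
      rw [← h1, inv_smul_smul, C0_sp]
    rcases Fr.thin_panel hl hW hρ hY' with h | h
    · left; rw [← hgC, ← h, smul_inv_smul]
    · right; rw [← hgP, ← h, smul_inv_smul]
  have hX1 : Fr.X1 l ∈ panel Fr.X0 m := by
    rw [mem_panel]
    intro i hi hik
    have hP : (Fr.P0 l).sp i = Fr.C0.sp i := by
      rw [ch_sp, ch_sp]
      congr 2
      refine Set.image_congr fun j (hj : (j : ℕ) < i) => ?_
      have hjl : j ≠ l := fun e => by rw [e] at hj; omega
      simp [idx, Function.update_of_ne hjl]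
    rw [← hgP, ← hgC, Ch.smul_sp, Ch.smul_sp, hP]
  have hX0 : Fr.X0 ∈ panel Fr.X0 m := mem_panel.2 fun _ _ _ => rfl
  refine Fr.hasSteinberg_of p H hUH (fun g _ _ _ w hw => ?_) (fun h hh hfix => ?_)
    (fun f hf hH => ?_) fun z _ hz hzC => ?_
  · rw [hW w hw, map_zero, map_zero]
  · exact (Fr.thin_panel hl hW hρ (Fr.fixed_sp hfix)).resolve_right (hparity h hh)
  · rcases hx₀ with h | h
    · exact h ▸ hH h₀ hh₀
    · have h1 := hf (panel Fr.X0 m) ⟨Fr.X0, m, by omega, le_rfl, rfl⟩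
      have he : panel Fr.X0 m = {Fr.X0, Fr.X1 l} := by
        ext Y
        rw [Finset.mem_insert, Finset.mem_singleton]
        refine ⟨hmem, ?_⟩
        rintro (rfl | rfl)
        · exact hX0
        · exact hX1
      rw [he, Finset.sum_pair hne.symm, ← h, hH h₀ hh₀, add_zero] at h1
      exact h1
  · have hfix : z • (h₀ • Fr.C0) = h₀ • Fr.C0 := by
      rw [← mul_smul, ← hz h₀ hh₀, mul_smul, hzC]
    rcases hx₀ with h | h
    · rwa [h] at hfix
    · rw [h] at hfix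
      have h2 : z • Fr.X0 ∈ panel Fr.X0 m := by
        rw [mem_panel]
        intro i hi hik
        rw [Ch.smul_sp, ← mem_panel.1 hX1 i hi hik, ← Ch.smul_sp, hfix]
      rcases hmem h2 with h3 | h3
      · exact h3
      · exact absurd (MulAction.injective z (h3.trans hfix.symm)) hne.symm

end Frame

end Cfsg.Agent.Lib.SteinbergChar
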