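import Cfsg.Agent.Lib.SteinbergChar.OrthMiddle
import Cfsg.Agent.Lib.Forms.MaxSingular
import Cfsg.Agent.Lib.OrthOmega.Simple
import Cfsg.Agent.Lib.OrthStd.Models
import Cfsg.Agent.Lib.AutPOmega.Bridge

/-!
Steinberg characters of the simple orthogonal groups.
-/

set_option autoImplicit false
set_option linter.style.haveILetI false

namespace Cfsg.Agent.Lib.SteinbergChar.Orth

open Module QuadraticMap
open Cfsg.Agent.Lib.Forms

variable {F : Type*} [Field F] [Finite F] {ι : Type} [Fintype ι] [DecidableEq ι]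

theorem hasSteinberg_pOmega (p : ℕ) [Fact p.Prime] (Q : QuadraticForm F (ι → F)) (hQ : Nondeg Q)
    {f : (ι → F) → F} (hf : ∀ v, f v = Q v)
    (h : HasSteinberg p (om Q hQ ⧸ Subgroup.center (om Q hQ))) :
    HasSteinberg p (Cfsg.POmega F f) :=
  hasSteinberg_quotient_center ((OrthOmega.omegaEquiv Q hf).trans
    ((commutator (orth Q)).equivMapOfInjective _ (equiv hQ).injective)) h

/-- The data of the odd-dimensional and minus-type groups. -/
theorem aniso_data (p : ℕ) [Fact p.Prime] [CharP F p] {m : ℕ} {V' : Type*} [AddCommGroup V']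
    [Module F V'] [FiniteDimensional F V'] (Q : QuadraticForm F (ι → F)) (hQ : Nondeg Q)
    (φ : (ι → F) ≃ₗ[F] (Fin m ⊕ Fin m → F) × V') (R : QuadraticForm F V')
    (hR : ∀ z, R z = 0 → z = 0) (hφ : ∀ x, Q x = qPlus m (φ x).1 + R (φ x).2)
    {z : V'} (hz : z ≠ 0) (hd : p = 2 → finrank F V' ≤ 2)
    (hq : (∃ a : F, a ≠ 0 ∧ a ≠ 1) ∨ finrank F (ι → F) ≠ 4) :
    ∃ Fr : Frame (pair hQ) m, Fr.U ≤ om Q hQ ∧
      (∀ g ∈ om Q hQ, (∃ k, orderOf g = p ^ k) → g • Fr.C0 = Fr.C0 → ∀ w, Fr.IsW w →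
        Fr.pr ((g : (ι → F) ≃ₗ[F] (ι → F)) w) = w) ∧
      (∀ l : Fin m, (l : ℕ) + 1 = m → ∃ (w₀ : ι → F) (c₀ : F), Fr.IsW w₀ ∧ (w₀ ≠ 0 ∨ c₀ ≠ 0) ∧
        (pair hQ).N (Fr.f l + w₀ + c₀ • Fr.e l) = 0) ∧
      ∃ h ∈ om Q hQ, h • Fr.C0 = Fr.X0 := by
  obtain ⟨Fr, hW⟩ := exists_frame hQ φ R hR hφ
  have hd' : p = 2 → finrank F (wsub Fr) ≤ 2 := by
    intro hp
    let ψ : wsub Fr →ₗ[F] V' :=
      LinearMap.snd F _ V' ∘ₗ φ.toLinearMap ∘ₗ (wsub Fr).subtype
    have hψ : Function.Injective ψ := by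
      rw [injective_iff_map_eq_zero]
      intro w h
      exact Subtype.ext (φ.injective ((Prod.ext ((hW w).1 w.2) h).trans (map_zero φ).symm))
    exact (LinearMap.finrank_le_finrank_of_injective hψ).trans (hd hp)
  set v₀ : ι → F := φ.symm (0, z) with hv₀
  have hv₀W : Fr.IsW v₀ := (hW v₀).2 (by simp [hv₀])
  have hQv₀ : Q v₀ = R z := by simp [hv₀, hφ]
  have hRz : R z ≠ 0 := fun h => hz (hR z h)
  refine ⟨Fr, U_le_om Fr p hq,
    fun g hg hord hfix w hw => mid Fr p hd' hq hg hord hfix hw, fun l _ => ?_, ?_⟩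
  · refine ⟨v₀, -R z, hv₀W, Or.inl (fun h0 => hRz (by rw [← hQv₀, h0, QuadraticMap.map_zero])), ?_⟩
    show Q (Fr.f l + v₀ + (-R z) • Fr.e l) = 0
    rw [Q_add, Q_add, Q_smul, show Q (Fr.f l) = 0 from Fr.rel.Nf l,
      show Q (Fr.e l) = 0 from Fr.rel.Ne l, hQv₀, polar_smul_right, polar_add_left,
      show polar Q (Fr.f l) (Fr.e l) = 1 from (Fr.rel.Bfe l l).trans (if_pos rfl),
      show polar Q v₀ (Fr.e l) = 0 from (pair hQ).eq_zero_symm (hv₀W l).1,
      show polar Q (Fr.f l) v₀ = 0 from (hv₀W l).2, smul_eq_mul]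
    ring
  · obtain ⟨g, hg, hgC⟩ := exists_partial_swap hQ Fr (a := -R z) (neg_ne_zero.2 hRz)
      (v₀ := v₀) (by rw [neg_neg, hQv₀]) m le_rfl
    refine ⟨g * equiv hQ (orefl Q v₀) ^ m, ?_, ?_⟩
    · rw [mem_om_iff, map_mul, map_mul, hg, map_pow, map_pow, MulEquiv.symm_apply_apply,
        ← mul_pow, of_orefl_sq, one_pow]
    · rw [mul_smul, Fr.pow_fix (orefl_fix hQ Fr hv₀W), hgC]
      congr 2
      funext j
      simp

/-- Odd-dimensional and minus-type groups. -/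
theorem hasSteinberg_aniso (p : ℕ) [Fact p.Prime] [CharP F p] {m : ℕ} {V' : Type*} [AddCommGroup V']
    [Module F V'] [FiniteDimensional F V'] (Q : QuadraticForm F (ι → F)) (hQ : Nondeg Q)
    (φ : (ι → F) ≃ₗ[F] (Fin m ⊕ Fin m → F) × V') (R : QuadraticForm F V')
    (hR : ∀ z, R z = 0 → z = 0) (hφ : ∀ x, Q x = qPlus m (φ x).1 + R (φ x).2)
    {z : V'} (hz : z ≠ 0) (hd : p = 2 → finrank F V' ≤ 2)
    (hq : (∃ a : F, a ≠ 0 ∧ a ≠ 1) ∨ finrank F (ι → F) ≠ 4) {f : (ι → F) → F}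
    (hf : ∀ v, f v = Q v) : HasSteinberg p (Cfsg.POmega F f) := by
  obtain ⟨Fr, hU, hmid, hlast, hopp⟩ := aniso_data p Q hQ φ R hR hφ hz hd hq
  exact hasSteinberg_pOmega p Q hQ hf (Fr.hasSteinberg_thick p (om Q hQ) hU hmid hlast hopp)

/-- The data of the plus-type groups. -/
theorem plus_data (p : ℕ) [Fact p.Prime] [CharP F p] {m : ℕ} (hm : 1 ≤ m)
    (hq : (∃ a : F, a ≠ 0 ∧ a ≠ 1) ∨ finrank F (Fin m ⊕ Fin m → F) ≠ 4) :
    ∃ (Fr : Frame (pair (qPlus_nondeg (F := F) m)) m) (l : Fin m), (l : ℕ) + 1 = m ∧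
      (∀ w, Fr.IsW w → w = 0) ∧ (∀ r, (pair (qPlus_nondeg (F := F) m)).ρ r = 0 → r = 0) ∧
      Fr.U ≤ om _ (qPlus_nondeg (F := F) m) ∧
      (∀ h ∈ om _ (qPlus_nondeg (F := F) m), (h • Fr.C0).sp m ≠ (Fr.P0 l).sp m) ∧
      ∃ h ∈ om _ (qPlus_nondeg (F := F) m), h • Fr.C0 = Fr.X0 ∨ h • Fr.C0 = Fr.X1 l := by
  classical
  set Q : QuadraticForm F (Fin m ⊕ Fin m → F) := qPlus m with hQdef
  have hQ : Nondeg Q := qPlus_nondeg m
  let φ : (Fin m ⊕ Fin m → F) ≃ₗ[F] (Fin m ⊕ Fin m → F) × (Fin 0 → F) :=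
    { toFun := fun x => (x, 0)
      invFun := fun p => p.1
      map_add' := fun x y => by simp
      map_smul' := fun c x => by simp
      left_inv := fun x => rfl
      right_inv := fun p => Prod.ext rfl (Subsingleton.elim _ _) }
  obtain ⟨Fr, hW⟩ := exists_frame hQ φ 0 (fun z _ => Subsingleton.elim _ _)
    (fun x => by simp [φ, hQdef])
  have hW0 : ∀ w, Fr.IsW w → w = 0 := fun w hw => (hW w).1 hw
  set l : Fin m := ⟨m - 1, by omega⟩ with hl
  have hl' : (l : ℕ) + 1 = m := by simp [hl]; omega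
  have hV : finrank F (Fin m ⊕ Fin m → F) = 2 * m := MaxSingular.finrank_space
  have hmax : ∀ D : Ch (pair hQ) m, MaxSingular.IsMax Q m (D.sp m) := fun D =>
    ⟨D.dim m le_rfl, fun x hx => (D.ts x hx).1⟩
  refine ⟨Fr, l, hl', hW0, fun r hr => hr, U_le_om Fr p hq, fun h hh heq => ?_, ?_⟩
  · -- the parity of a maximal singular subspace and its image
    let d : orth Q → ZMod 2 := fun a =>
      ((m - finrank F ↥(Fr.C0.sp m ⊓ (equiv hQ a • Fr.C0).sp m) : ℕ) : ZMod 2)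
    have hd : ∀ a b, d (a * b) = d a + d b := by
      intro a b
      have h1 := MaxSingular.even_triangle hQ hV _ _ ((equiv hQ a • Fr.C0).sp m)
        ((equiv hQ (a * b) • Fr.C0).sp m) (hmax Fr.C0) (hmax _) (hmax _) rfl
      have h2 : finrank F ↥((equiv hQ a • Fr.C0).sp m ⊓ (equiv hQ (a * b) • Fr.C0).sp m) =
          finrank F ↥(Fr.C0.sp m ⊓ (equiv hQ b • Fr.C0).sp m) := by
        rw [map_mul (equiv hQ), mul_smul, Ch.smul_sp (equiv hQ a), Ch.smul_sp (equiv hQ a),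
          ← Submodule.map_inf _ (LinearEquiv.injective _), LinearEquiv.finrank_map_eq]
      rw [h2] at h1
      have h3 := (ZMod.natCast_eq_zero_iff_even).2 h1
      push_cast at h3
      have h20 : (2 : ZMod 2) = 0 := rfl
      show ((m - finrank F ↥(Fr.C0.sp m ⊓ (equiv hQ (a * b) • Fr.C0).sp m) : ℕ) : ZMod 2) = _
      linear_combination h3 - (d a + d b) * h20
    let χ : orth Q →* Multiplicative (ZMod 2) :=
      MonoidHom.mk' (fun a => Multiplicative.ofAdd (d a)) fun a b => by simp [hd]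
    have h1 : χ ((equiv hQ).symm h) = 1 := Abelianization.commutator_subset_ker χ (mem_om.1 hh)
    have h2 : d ((equiv hQ).symm h) = 0 := Multiplicative.ofAdd.injective h1
    have he : equiv hQ ((equiv hQ).symm h) = h := MulEquiv.apply_symm_apply _ _
    simp only [d] at h2
    rw [he, heq] at h2
    have h3 : finrank F ↥(Fr.C0.sp m ⊓ (Fr.P0 l).sp m) = m - 1 := by
      have hlo : Fr.C l ≤ Fr.C0.sp m ⊓ (Fr.P0 l).sp m := by
        refine le_inf (by rw [Frame.C0_sp]; exact Fr.C_mono (le_of_lt l.2)) ?_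
        refine Submodule.span_le.2 ?_
        rintro _ ⟨j, hj, rfl⟩
        have hjl : j ≠ l := fun e => by rw [e] at hj; exact lt_irrefl _ (Set.mem_ofPred.1 hj)
        have := Fr.gen_mem_ch (w := (1, Function.update (fun _ => false) l true)) j.2
        simpa [Frame.gen, Frame.idx, Function.update_of_ne hjl] using this
      have hne : Fr.f l ∉ Fr.C m := fun hf => by
        have := (Fr.mem_C_iff.1 hf).2.1 l
        simp [Frame.b_f] at this
      have hfl : Fr.f l ∈ (Fr.P0 l).sp m := by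
        have := Fr.gen_mem_ch (w := (1, Function.update (fun _ => false) l true)) l.2
        simpa [Frame.gen, Frame.idx] using this
      have hlt : Fr.C0.sp m ⊓ (Fr.P0 l).sp m < (Fr.P0 l).sp m :=
        lt_of_le_of_ne inf_le_right fun e => hne (by
          rw [← Frame.C0_sp]
          exact (e.symm.le hfl).1)
      have h4 := Submodule.finrank_lt_finrank_of_lt hlt
      rw [(Fr.P0 l).dim m le_rfl] at h4
      have h5 := Submodule.finrank_mono hlo
      rw [← Frame.C0_sp, Fr.C0.dim l (le_of_lt l.2)] at h5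
      omega
    rw [h3, show m - (m - 1) = 1 by omega, Nat.cast_one] at h2
    exact one_ne_zero h2
  · have hv : Q (Fr.e l - (1 : F) • Fr.f l) = -1 := by
      rw [sub_eq_add_neg, ← neg_smul, Q_add, Q_smul, polar_smul_right,
        show Q (Fr.e l) = 0 from Fr.rel.Ne l, show Q (Fr.f l) = 0 from Fr.rel.Nf l,
        show polar Q (Fr.e l) (Fr.f l) = 1 from (Fr.rel.Bef l l).trans (if_pos rfl), smul_eq_mul]
      ring
    set t := Abelianization.of (orefl Q (Fr.e l - (1 : F) • Fr.f l)) with ht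
    have ht2 : t * t = 1 := of_orefl_sq _
    rcases Nat.even_or_odd m with ⟨k, hk⟩ | ⟨k, hk⟩
    · obtain ⟨g, hg, hgC⟩ := exists_partial_swap hQ Fr one_ne_zero hv m le_rfl
      refine ⟨g, mem_om_iff.2 (by rw [hg, ← ht, show t ^ m = t ^ (k + k) from congrArg (t ^ ·) hk, pow_add, ← mul_pow, ht2,
          one_pow]), Or.inl ?_⟩
      rw [hgC]
      congr 2
      funext j
      simp
    · obtain ⟨g, hg, hgC⟩ := exists_partial_swap hQ Fr one_ne_zero hv (m - 1) (Nat.sub_le _ _)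
      refine ⟨g, mem_om_iff.2 (by
        rw [hg, ← ht, show m - 1 = k + k by omega, pow_add, ← mul_pow, ht2, one_pow]), Or.inr ?_⟩
      rw [hgC]
      congr 2
      funext j
      rcases eq_or_ne j l with rfl | hj
      · simp [hl]
      · have : (j : ℕ) ≠ l := fun e => hj (Fin.ext e)
        have := j.2
        simp [Function.update_of_ne hj]
        omega

/-- Plus-type groups. -/
theorem hasSteinberg_plus (p : ℕ) [Fact p.Prime] [CharP F p] {m : ℕ} (hm : 1 ≤ m)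
    (hq : (∃ a : F, a ≠ 0 ∧ a ≠ 1) ∨ finrank F (Fin m ⊕ Fin m → F) ≠ 4) :
    HasSteinberg p (Cfsg.POmega F (Cfsg.quadFormPlus m F)) := by
  classical
  obtain ⟨Fr, l, hl, hW, hρ, hU, hpar, hopp⟩ := plus_data (F := F) p hm hq
  exact hasSteinberg_pOmega p _ _ (OrthStd.quadFormPlus_eq m)
    (Fr.hasSteinberg_thin p _ hU l hl hW hρ (fun h hh e => hpar h hh (congrArg (fun D => Ch.sp D m) e))
      hopp)

theorem hasSteinberg_odd (p : ℕ) [Fact p.Prime] [CharP F p] (h2 : (2 : F) ≠ 0) (m : ℕ) :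
    HasSteinberg p (Cfsg.POmega F (Cfsg.quadFormOdd m F)) :=
  hasSteinberg_aniso p (OrthStd.qOddC m F) (OrthOmega.qOddC_nondeg m h2) (OrthStd.oddSplit m F)
    (qOne 1) (fun z hz => by simpa [qOne_apply] using hz)
    (fun x => by simp [OrthStd.qOddC]) one_ne_zero (fun _ => by simp [finrank_self])
    (Or.inl ⟨2, h2, fun h => one_ne_zero (add_eq_right.1 (show (1 : F) + 1 = 1 by
      rw [one_add_one_eq_two]; exact h))⟩) (OrthStd.quadFormOdd_eq m)

theorem hasSteinberg_minus (p : ℕ) [Fact p.Prime] [CharP F p] {m : ℕ} (hm : m ≠ 1) {a b : F}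
    (hab : ∀ z₁ z₂ : F, z₁ ^ 2 + a * z₁ * z₂ + b * z₂ ^ 2 = 0 → z₁ = 0 ∧ z₂ = 0) :
    HasSteinberg p (Cfsg.POmega F (Cfsg.quadFormMinus m F a b)) :=
  hasSteinberg_aniso p (OrthStd.qMinusC m a b) (AutPOmega.qMinusC_nondeg m hab)
    (OrthStd.minusSplit m F) (qBin a b) (fun z hz => qBin_anisotropic hab z hz)
    (fun x => by simp [OrthStd.qMinusC]) (z := fun _ => 1) (fun h => one_ne_zero (congrFun h 0))
    (fun _ => by simp) (Or.inr (by
      rw [Module.finrank_fintype_fun_eq_card]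
      simp only [Fintype.card_sum, Fintype.card_fin]
      omega)) (OrthStd.quadFormMinus_eq m a b)

end Cfsg.Agent.Lib.SteinbergChar.Orth
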