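import Cfsg.Agent.Lib.SteinbergChar.Main
import Cfsg.Agent.Lib.Symplectic.Std

/-!
The Steinberg character of `PSp_{2m}(q)`.
-/

set_option autoImplicit false
set_option linter.style.haveILetI false

namespace Cfsg.Agent.Lib.SteinbergChar.Sp

open Module Matrix
open Cfsg.Agent.Lib.Forms Cfsg.Agent.Lib.Symplectic

variable (m : ℕ) (F : Type*) [Field F]

theorem std_nondeg : (stdForm m F : LinearMap.BilinForm F (Fin m ⊕ Fin m → F)).Nondegenerate :=
  ⟨(isSympForm_stdForm m F).nondeg, fun y hy => (isSympForm_stdForm m F).nondeg y fun x => by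
    rw [← LinearMap.IsAlt.neg (isSympForm_stdForm m F).self x y, hy x, neg_zero]⟩

/-- The form pair. -/
noncomputable def pair : FormPair (RingHom.id F) (Fin m ⊕ Fin m → F) :=
  ofAlt (stdForm m F) (std_nondeg m F) (isSympForm_stdForm m F).self

theorem pair_B (x y : Fin m ⊕ Fin m → F) : (pair m F).B x y = stdForm m F x y := rfl

theorem pair_N (x : Fin m ⊕ Fin m → F) : (pair m F).N x = 0 := rfl

/-- The isometry group of the pair. -/
noncomputable def isoEquiv : Isom (stdForm m F) ≃* (pair m F).isom where
  toFun g := ⟨g.1, g.2, fun _ => rfl⟩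
  invFun g := ⟨g.1, g.2.1⟩
  left_inv _ := rfl
  right_inv _ := rfl
  map_mul' _ _ := rfl

theorem std_single_left (i : Fin m) (y : Fin m ⊕ Fin m → F) :
    stdForm m F (Pi.single (Sum.inr i) 1) y = y (Sum.inl i) ∧
      stdForm m F (Pi.single (Sum.inl i) 1) y = -y (Sum.inr i) := by
  constructor <;> (rw [stdForm_apply, Finset.sum_eq_single i]) <;>
    first
      | (simp; done)
      | (intro b _ hb; simp [Pi.single_apply, hb])

/-- The standard frame. -/
noncomputable def frame : Frame (pair m F) m where
  e i := Pi.single (Sum.inr i) 1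
  f i := Pi.single (Sum.inl i) 1
  rel := by
    refine ⟨fun _ => rfl, fun _ => rfl, fun i j => ?_, fun i j => ?_, fun i j => ?_⟩
    · rw [pair_B, (std_single_left m F i _).1]; simp
    · rw [pair_B, (std_single_left m F i _).2]; simp
    · rw [pair_B, (std_single_left m F i _).1]; simp [Pi.single_apply, eq_comm]
  aniso w he hf _ := by
    funext j
    cases j with
    | inl i => rw [← (std_single_left m F i w).1]; exact he i
    | inr i =>
      show w (Sum.inr i) = 0
      rw [← neg_eq_zero, ← (std_single_left m F i w).2]; exact hf i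

variable [Finite F]

theorem hasSteinberg (p : ℕ) [Fact p.Prime] [CharP F p] : HasSteinberg p (Cfsg.PSp m F) := by
  have hW : ∀ w, (frame m F).IsW w → w = 0 := fun w hw => (frame m F).aniso' hw rfl
  have h : HasSteinberg p ((⊤ : Subgroup (pair m F).isom) ⧸ Subgroup.center (⊤ : Subgroup (pair m F).isom)) := by
    refine (frame m F).hasSteinberg_thick p ⊤ le_top (fun g _ _ _ w hw => ?_)
      (fun l _ => ⟨0, 1, fun j => by simp, Or.inr one_ne_zero, rfl⟩) ?_
    · rw [hW w hw, map_zero, map_zero]
    · obtain ⟨g, hg⟩ := (frame m F).exists_swap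
      exact ⟨g, trivial, hg _⟩
  haveI : Finite (Matrix.symplecticGroup (Fin m) F) :=
    Finite.of_injective ((spEquiv m F).trans (isoEquiv m F)) (MulEquiv.injective _)
  exact hasSteinberg_quotient_center
    (((spEquiv m F).trans (isoEquiv m F)).trans Subgroup.topEquiv.symm) h

end Cfsg.Agent.Lib.SteinbergChar.Sp
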