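import Cfsg.Agent.Lib.SteinbergChar.Middle
import Cfsg.Agent.Lib.Unitary.Witt
import Cfsg.Agent.Lib.Forms.Quad

/-!
The Steinberg character of `PSU_n(q)`.
-/

set_option autoImplicit false
set_option linter.style.haveILetI false

namespace Cfsg.Agent.Lib.SteinbergChar.SU

open Module Matrix
open Cfsg.Agent.Lib.Forms

/-- The coordinates of the `i`-th pair. -/
def lo (n : ℕ) (i : Fin (n / 2)) : Fin n := ⟨2 * i, by omega⟩

/-- The coordinates of the `i`-th pair. -/
def hi (n : ℕ) (i : Fin (n / 2)) : Fin n := ⟨2 * i + 1, by omega⟩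

variable {F : Type*} [Field F] [Fintype F] {q : ℕ} (hF : Fintype.card F = q ^ 2) (n : ℕ)

/-- The Hermitian form, semilinear in the first variable. -/
noncomputable def bform : (Fin n → F) →ₛₗ[Unitary.conj hF] (Fin n → F) →ₗ[F] F :=
  LinearMap.mk₂'ₛₗ (Unitary.conj hF) (RingHom.id F) (fun x y => hermForm n F q y x)
    (fun _ _ _ => Unitary.herm_add_right _ _ _ hF) (fun _ _ _ => Unitary.herm_smul_right _ _ _)
    (fun _ _ _ => Unitary.herm_add_left _ _ _) (fun _ _ _ => Unitary.herm_smul_left _ _ _)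

theorem bform_apply (x y : Fin n → F) : bform hF n x y = hermForm n F q y x := rfl

include hF in
theorem conj_ne : Unitary.conj hF ≠ RingHom.id F := by
  intro h
  have hq := Unitary.one_lt_q hF
  have h1 : Nat.card {x : F // x ^ q = x} = Nat.card F :=
    Nat.card_congr (Equiv.subtypeUnivEquiv fun x => RingHom.congr_fun h x)
  rw [Unitary.card_fixed hF, Nat.card_eq_fintype_card, hF] at h1
  nlinarith

/-- The form pair. -/
noncomputable def pair : FormPair (Unitary.conj hF) (Fin n → F) :=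
  ofHerm (Unitary.conj hF) (conj_ne hF) (fun a => Unitary.pow_q_q hF a) (bform hF n)
    ⟨fun x y => by
      rw [bform_apply, bform_apply, Unitary.conj_apply]
      exact Unitary.herm_conj _ _ hF⟩
    ⟨fun x hx => Unitary.herm_nondeg_right hF fun y => hx y,
      fun y hy => Unitary.herm_nondeg_left hF fun x => hy x⟩

theorem pair_B (x y : Fin n → F) : (pair hF n).B x y = hermForm n F q y x := rfl

theorem pair_N (x : Fin n → F) : (pair hF n).N x = hermForm n F q x x := rfl

include hF in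
/-- Two distinct elements of norm `-1`. -/
theorem exists_roots : ∃ a b : F, a * a ^ q = -1 ∧ b * b ^ q = -1 ∧ a ≠ b := by
  obtain ⟨a, ha⟩ := Unitary.norm_surj hF (y := (-1 : F)) (by rw [Unitary.neg_pow_q hF, one_pow])
  have : Nontrivial {x : F // x ^ (q + 1) = 1} := by
    rw [← Finite.one_lt_card_iff_nontrivial, Unitary.card_norm_one hF]
    have := Unitary.one_lt_q hF
    omega
  obtain ⟨⟨z, hz⟩, hne⟩ := exists_ne (⟨1, one_pow _⟩ : {x : F // x ^ (q + 1) = 1})
  refine ⟨a, a * z, ha, ?_, fun h => hne (Subtype.ext ?_)⟩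
  · rw [mul_pow, show a * z * (a ^ q * z ^ q) = a * a ^ q * z ^ (q + 1) by ring, ha, hz, mul_one]
  · have ha0 : a ≠ 0 := fun h0 => by simp [h0] at ha
    exact mul_left_cancel₀ ha0 (by rw [← h]; exact (mul_one a).symm)

/-- The vector `x_lo + a x_hi`. -/
def vec (a : F) (i : Fin (n / 2)) : Fin n → F := Pi.single (lo n i) 1 + Pi.single (hi n i) a

omit [Fintype F] in
theorem vec_apply_eq (a : F) (i : Fin (n / 2)) :
    vec n a i (lo n i) = 1 ∧ vec n a i (hi n i) = a := by
  have h : lo n i ≠ hi n i := fun h => by simp [lo, hi, Fin.ext_iff] at h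
  constructor <;> simp [vec, h, h.symm]

include hF in
theorem herm_vec (a : F) (i : Fin (n / 2)) (x : Fin n → F) :
    hermForm n F q x (vec n a i) = x (lo n i) + x (hi n i) * a ^ q := by
  rw [vec, Unitary.herm_add_right _ _ _ hF]
  have key : ∀ (j : Fin n) (c : F), hermForm n F q x (Pi.single j c) = x j * c ^ q := by
    intro j c
    rw [hermForm, Finset.sum_eq_single j]
    · simp
    · intro b _ hb; simp [hb, Unitary.q_ne_zero hF]
    · simp
  rw [key, key, one_pow, mul_one]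

include hF in
theorem herm_vec_vec (a b : F) (i j : Fin (n / 2)) :
    hermForm n F q (vec n b j) (vec n a i) = if i = j then 1 + b * a ^ q else 0 := by
  rw [herm_vec hF]
  split_ifs with h
  · subst h
    rw [(vec_apply_eq n b i).1, (vec_apply_eq n b i).2]
  · have h' : (i : ℕ) ≠ j := fun e => h (Fin.ext e)
    have h1 : lo n i ≠ lo n j := fun e => by simp [lo, Fin.ext_iff] at e; exact h' e
    have h2 : lo n i ≠ hi n j := fun e => by simp [lo, hi, Fin.ext_iff] at e; omega
    have h3 : hi n i ≠ lo n j := fun e => by simp [lo, hi, Fin.ext_iff] at e; omega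
    have h4 : hi n i ≠ hi n j := fun e => by simp [hi, Fin.ext_iff] at e; exact h' e
    simp [vec, h1, h2, h3, h4]

theorem exists_frame : ∃ Fr : Frame (pair hF n) (n / 2),
    ∀ w, Fr.IsW w → ∀ i : Fin n, (i : ℕ) < 2 * (n / 2) → w i = 0 := by
  obtain ⟨a, b, ha, hb, hab⟩ := exists_roots hF
  have hc : 1 + b * a ^ q ≠ 0 := by
    intro h
    have ha0 : a ^ q ≠ 0 := fun h0 => by simp [h0] at ha
    exact hab (mul_right_cancel₀ ha0 (show a * a ^ q = b * a ^ q by
      rw [ha]; linear_combination -h))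
  set c := (1 + b * a ^ q)⁻¹ with hcdef
  have hker : ∀ w : Fin n → F,
      (∀ i, (pair hF n).B (vec n a i) w = 0) → (∀ i, (pair hF n).B (c • vec n b i) w = 0) →
      ∀ i : Fin n, (i : ℕ) < 2 * (n / 2) → w i = 0 := by
    intro w he hf i hi'
    set k : Fin (n / 2) := ⟨(i : ℕ) / 2, by omega⟩ with hk
    have e1 : w (lo n k) + w (hi n k) * a ^ q = 0 := by
      rw [← herm_vec hF n a k w]; exact he k
    have e2 : w (lo n k) + w (hi n k) * b ^ q = 0 := by
      have h := hf k
      rw [FormPair.B_smul_left, mul_eq_zero] at h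
      rw [← herm_vec hF n b k w]
      refine h.resolve_left fun h0 => ?_
      rw [map_eq_zero, hcdef, inv_eq_zero] at h0
      exact hc h0
    have h1 : w (hi n k) = 0 := by
      have h2 : w (hi n k) * (a ^ q - b ^ q) = 0 := by linear_combination e1 - e2
      refine (mul_eq_zero.1 h2).resolve_right fun h3 => hab ?_
      exact Unitary.pow_q_injective hF (sub_eq_zero.1 h3)
    have h0 : w (lo n k) = 0 := by rw [h1, zero_mul, add_zero] at e1; exact e1
    rcases Nat.mod_two_eq_zero_or_one (i : ℕ) with h | h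
    · rw [show i = lo n k from Fin.ext (by simp [lo, hk]; omega)]; exact h0
    · rw [show i = hi n k from Fin.ext (by simp [hi, hk]; omega)]; exact h1
  refine ⟨{ e := vec n a, f := fun i => c • vec n b i, rel := ?_, aniso := ?_ },
    fun w hw => hker w (fun i => (hw i).1) fun i => (hw i).2⟩
  · refine ⟨fun i => ?_, fun i => ?_, fun i j => ?_, fun i j => ?_, fun i j => ?_⟩
    · rw [pair_N, herm_vec_vec hF, if_pos rfl, ha]; ring
    · rw [FormPair.N_smul, pair_N, herm_vec_vec hF, if_pos rfl, hb, add_neg_cancel, mul_zero]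
    · rw [pair_B, herm_vec_vec hF, ha]; split <;> ring
    · rw [FormPair.B_smul_left, FormPair.B_smul_right, pair_B, herm_vec_vec hF, hb]
      split <;> ring
    · rw [FormPair.B_smul_right, pair_B, herm_vec_vec hF]
      split
      · exact inv_mul_cancel₀ hc
      · exact mul_zero _
  · intro w he hf hN
    funext i
    rcases lt_or_ge (i : ℕ) (2 * (n / 2)) with h | h
    · exact hker w he hf i h
    · rw [pair_N, hermForm, Finset.sum_eq_single i] at hN
      · rcases mul_eq_zero.1 hN with h' | h'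
        · exact h'
        · exact pow_eq_zero_iff (Unitary.q_ne_zero hF) |>.1 h'
      · intro j _ hj
        have : (j : ℕ) ≠ i := fun e => hj (Fin.ext e)
        rw [hker w he hf j (by omega), zero_mul]
      · simp

/-- The embedding of `SU`. -/
noncomputable def suHom : Cfsg.SU n F q →* (pair hF n).isom :=
  MonoidHom.codRestrict
    ((glEquiv (F := F) (ι := Fin n)).toMonoidHom.comp
      (Matrix.SpecialLinearGroup.toGL.comp (Cfsg.SU n F q).subtype)) _
    fun A => ⟨fun x y => A.2 y x, fun x => A.2 x x⟩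

theorem suHom_apply (A : Cfsg.SU n F q) (x : Fin n → F) :
    ((suHom hF n A : (pair hF n).isom) : (Fin n → F) ≃ₗ[F] (Fin n → F)) x = A.1.1 *ᵥ x := rfl

theorem suHom_injective : Function.Injective (suHom hF n) := by
  intro A B h
  refine Subtype.ext (Subtype.ext (Matrix.mulVec_injective (funext fun x => ?_)))
  have := congrArg (fun g : (pair hF n).isom => (g : (Fin n → F) ≃ₗ[F] (Fin n → F)) x) h
  simpa only [suHom_apply] using this

theorem mem_range {g : (pair hF n).isom}
    (h : (LinearMap.toMatrix' (g : (Fin n → F) ≃ₗ[F] (Fin n → F)).toLinearMap).det = 1) :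
    g ∈ (suHom hF n).range := by
  refine ⟨⟨⟨_, h⟩, fun u v => ?_⟩, ?_⟩
  · show hermForm n F q (LinearMap.toMatrix' _ *ᵥ u) (LinearMap.toMatrix' _ *ᵥ v) = _
    rw [LinearMap.toMatrix'_mulVec, LinearMap.toMatrix'_mulVec]
    exact g.2.1 v u
  · refine Subtype.ext (LinearEquiv.ext fun x => ?_)
    rw [suHom_apply]
    exact LinearMap.toMatrix'_mulVec _ x

theorem det_of_pow (p : ℕ) [Fact p.Prime] [CharP F p] {g : (pair hF n).isom} {k : ℕ}
    (hk : g ^ p ^ k = 1) :
    (LinearMap.toMatrix' (g : (Fin n → F) ≃ₗ[F] (Fin n → F)).toLinearMap).det = 1 := by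
  set d : (pair hF n).isom →* F :=
    { toFun := fun g => (LinearMap.toMatrix' (g : (Fin n → F) ≃ₗ[F] (Fin n → F)).toLinearMap).det
      map_one' := by
        show (LinearMap.toMatrix' LinearMap.id).det = 1
        rw [LinearMap.toMatrix'_id, Matrix.det_one]
      map_mul' := fun a b => by
        show (LinearMap.toMatrix' (_ ∘ₗ _)).det = _
        rw [LinearMap.toMatrix'_comp, Matrix.det_mul] }
  have h1 : d g ^ p ^ k = 1 := by rw [← map_pow, hk, map_one]
  have h2 : (d g - 1) ^ p ^ k = 0 := by rw [sub_pow_char_pow, h1, one_pow, sub_self]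
  exact sub_eq_zero.1 ((pow_eq_zero_iff (pow_ne_zero _ (Fact.out : p.Prime).ne_zero)).1 h2)

include hF in
theorem unitary_data (p : ℕ) [Fact p.Prime] [CharP F p] (hn : 2 ≤ n) :
    ∃ Fr : Frame (pair hF n) (n / 2), Fr.U ≤ (suHom hF n).range ∧
      (∀ g ∈ (suHom hF n).range, (∃ k, orderOf g = p ^ k) → g • Fr.C0 = Fr.C0 → ∀ w, Fr.IsW w →
        Fr.pr ((g : (Fin n → F) ≃ₗ[F] (Fin n → F)) w) = w) ∧
      (∀ l : Fin (n / 2), (l : ℕ) + 1 = n / 2 → ∃ (w₀ : Fin n → F) (c₀ : F), Fr.IsW w₀ ∧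
        (w₀ ≠ 0 ∨ c₀ ≠ 0) ∧ (pair hF n).N (Fr.f l + w₀ + c₀ • Fr.e l) = 0) ∧
      ∃ h ∈ (suHom hF n).range, h • Fr.C0 = Fr.X0 := by
  classical
  obtain ⟨Fr, hW⟩ := exists_frame hF n
  have hline : ∃ w₁, Fr.IsW w₁ ∧ ∀ w, Fr.IsW w → ∃ c : F, w = c • w₁ := by
    by_cases hz : ∀ w, Fr.IsW w → w = 0
    · exact ⟨0, fun j => by simp, fun w hw => ⟨0, by rw [hz w hw, smul_zero]⟩⟩
    push Not at hz
    obtain ⟨w₁, hw₁, hne⟩ := hz
    obtain ⟨i, hi⟩ := Function.ne_iff.1 hne
    refine ⟨w₁, hw₁, fun w hw => ⟨w i / w₁ i, funext fun j => ?_⟩⟩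
    rcases lt_or_ge (j : ℕ) (2 * (n / 2)) with h | h
    · rw [hW w hw j h, Pi.smul_apply, hW w₁ hw₁ j h, smul_zero]
    · have hi' : ¬ (i : ℕ) < 2 * (n / 2) := fun h' => hi (by rw [hW w₁ hw₁ i h']; rfl)
      obtain rfl : j = i := Fin.ext (by omega)
      exact (div_mul_cancel₀ _ hi).symm
  obtain ⟨w₁, hw₁, hline⟩ := hline
  obtain ⟨c₀, hc₀, hc₀'⟩ := Unitary.exists_trace_zero_ne_zero hF
  have hm : 0 < n / 2 := Nat.div_pos hn (by norm_num)
  refine ⟨Fr, fun u hu => ?_, fun g _ hord hfix w hw => Fr.mid_of_line p hw₁ hline hord hfix hw,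
    fun l _ => ⟨0, c₀, fun j => by simp, Or.inr hc₀, ?_⟩, ?_⟩
  · obtain ⟨k, hk⟩ := Fr.isPGroup_U p ⟨u, hu⟩
    exact mem_range hF n (det_of_pow hF n p (k := k) (by
      simpa using congrArg Subtype.val hk))
  · rw [add_zero, (pair hF n).N_add, Fr.rel.Nf, (pair hF n).N_smul, Fr.rel.Ne,
      FormPair.B_smul_right, Fr.rel.Bfe, if_pos rfl]
    show (0 : F) + _ * 0 + (c₀ * 1 + Unitary.conj hF (c₀ * 1)) = 0
    rw [mul_one, Unitary.conj_apply, hc₀']; ring
  · obtain ⟨g, hg⟩ := Fr.exists_swap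
    set d := (LinearMap.toMatrix' (g : (Fin n → F) ≃ₗ[F] (Fin n → F)).toLinearMap).det with hd
    have hnorm : d * d ^ q = 1 := Unitary.det_norm_one hF
      (Unitary.mkGU hF (LinearMap.toMatrix' (g : (Fin n → F) ≃ₗ[F] (Fin n → F)).toLinearMap)
        fun u v => by
          rw [LinearMap.toMatrix'_mulVec, LinearMap.toMatrix'_mulVec]; exact g.2.1 v u)
    obtain ⟨x, hx0, hx⟩ := Unitary.exists_div_conj hF (Unitary.inv_norm_one hF hnorm)
    set i₀ : Fin (n / 2) := ⟨0, hm⟩
    have hyp : Unitary.Hyp q (Fr.f i₀) (Fr.e i₀) :=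
      ⟨Fr.rel.Nf i₀, Fr.rel.Ne i₀, (Fr.rel.Bef i₀ i₀).trans (if_pos rfl)⟩
    obtain ⟨A, hAdet, hAf, hAe, hAo⟩ := Unitary.exists_GU_hyp_scale hF hyp hx0
    let a : (pair hF n).isom := ⟨glEquiv A.1, fun u v => A.2 v u, fun u => A.2 u u⟩
    have hfixC : a • Fr.C0 = Fr.C0 := by
      refine Fr.sp_ch_map fun j => ?_
      rcases eq_or_ne j i₀ with rfl | hj
      · exact ⟨(x ^ q)⁻¹, inv_ne_zero (pow_ne_zero _ hx0), hAe⟩
      · refine ⟨1, one_ne_zero, ?_⟩
        rw [one_smul]
        refine hAo _ ?_ ?_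
        · show (pair hF n).B (Fr.f i₀) (Fr.e j) = 0
          rw [Fr.rel.Bfe, if_neg hj]
        · exact Fr.rel.Bee i₀ j
    refine ⟨g * a, mem_range hF n ?_, by rw [mul_smul, hfixC]; exact hg _⟩
    show (LinearMap.toMatrix' ((g : (Fin n → F) ≃ₗ[F] (Fin n → F)).toLinearMap ∘ₗ
      (glEquiv A.1).toLinearMap)).det = 1
    rw [LinearMap.toMatrix'_comp, Matrix.det_mul, ← hd,
      show LinearMap.toMatrix' (glEquiv A.1).toLinearMap =
        (A.1 : Matrix (Fin n) (Fin n) F) from LinearMap.toMatrix'_toLin' _, hAdet]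
    have hd0 : d ≠ 0 := fun h0 => by simp [h0] at hnorm
    conv_lhs => arg 2; arg 1; rw [hx]
    field_simp

include hF in
theorem hasSteinberg (p : ℕ) [Fact p.Prime] [CharP F p] (hn : 2 ≤ n) :
    HasSteinberg p (Cfsg.PSU n F q) := by
  obtain ⟨Fr, hU, hmid, hlast, hopp⟩ := unitary_data hF n p hn
  exact hasSteinberg_quotient_center (MonoidHom.ofInjective (suHom_injective hF n))
    (Fr.hasSteinberg_thick p _ hU hmid hlast hopp)

end Cfsg.Agent.Lib.SteinbergChar.SU
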