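import Cfsg.Agent.Lib.SteinbergChar.Unipotent

/-!
Root elements in the unipotent radical and the chambers fixed by the radical; the element exchanging
the two base chambers.
-/

set_option autoImplicit false
set_option linter.style.haveILetI false

namespace Cfsg.Agent.Lib.SteinbergChar

open Module
open Cfsg.Agent.Lib.Forms

variable {F V : Type*} [Field F] [AddCommGroup V] [Module F V] {σ : F →+* F}
  {P : FormPair σ V} {m : ℕ}

namespace Frame

variable (Fr : Frame P m)

/-- The thin partner of the base chamber in the panel of type `m`. -/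
abbrev P0 (l : Fin m) : Ch P m := Fr.ch (1, Function.update (fun _ => false) l true)

/-- The thin partner of the opposite base chamber. -/
abbrev X1 (l : Fin m) : Ch P m := Fr.ch (1, Function.update (fun _ => true) l false)

theorem sp_ch_map {g : P.isom} {w w' : SPerm m}
    (h : ∀ j : Fin m, ∃ c : F, c ≠ 0 ∧
      (g : V ≃ₗ[F] V) (Fr.gen (idx w j)) = c • Fr.gen (idx w' j)) :
    g • Fr.ch w = Fr.ch w' := by
  refine Ch.ext' fun i hi => ?_
  rw [Ch.smul_sp, ch_sp, Submodule.map_span]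
  refine le_antisymm (Submodule.span_le.2 ?_) (Submodule.span_le.2 ?_)
  · rintro _ ⟨_, ⟨_, ⟨j, hj, rfl⟩, rfl⟩, rfl⟩
    obtain ⟨c, _, hc⟩ := h j
    rw [LinearEquiv.coe_coe, hc]
    exact Submodule.smul_mem _ _ (Fr.gen_mem_ch hj)
  · rintro _ ⟨_, ⟨j, hj, rfl⟩, rfl⟩
    obtain ⟨c, hc0, hc⟩ := h j
    have hmem : (g : V ≃ₗ[F] V) (Fr.gen (idx w j)) ∈ Submodule.span F
        ((g : V ≃ₗ[F] V).toLinearMap '' (Fr.gen '' idxSet w i)) :=
      Submodule.subset_span ⟨_, ⟨_, ⟨j, hj, rfl⟩, rfl⟩, rfl⟩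
    rw [hc] at hmem
    exact (Submodule.smul_mem_iff _ hc0).1 hmem

theorem ext_sub (e' f' : Fin m → V) (θ : V →ₗ[F] V) (x : V) :
    Fr.ext e' f' θ x - x = (θ (Fr.pr x) - Fr.pr x) + ∑ j, Fr.a j x • (e' j - Fr.e j) +
      ∑ j, Fr.b j x • (f' j - Fr.f j) := by
  simp only [ext_apply, pr_apply, smul_sub, Finset.sum_sub_distrib]
  abel

theorem rel_swap : Rel P Fr.f (fun i => P.ε⁻¹ • Fr.e i) := by
  refine ⟨Fr.rel.Nf, fun i => by rw [P.N_smul, Fr.rel.Ne, mul_zero], Fr.rel.Bff,
    fun i j => by rw [P.B_smul_left, P.B_smul_right, Fr.rel.Bee, mul_zero, mul_zero], fun i j => ?_⟩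
  rw [P.B_smul_right, Fr.rel.Bfe]
  rcases eq_or_ne i j with rfl | h
  · simp [Fr.eps_ne i]
  · rw [if_neg h, if_neg fun e => h e.symm, mul_zero]

/-- An isometry exchanging the two base chambers. -/
theorem exists_swap [FiniteDimensional F V] :
    ∃ g : P.isom, ∀ s : Fin m → Bool, g • Fr.ch (1, s) = Fr.ch (1, fun i => !s i) := by
  obtain ⟨g, -, hge, hgf, -⟩ := Fr.exists_ext Fr.rel_swap LinearMap.id
    (fun w hw j => ⟨(hw j).2, by rw [P.B_smul_left, LinearMap.id_apply, (hw j).1, mul_zero]⟩)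
    (fun _ _ _ _ => rfl) fun _ _ => rfl
  refine ⟨g, fun s => Fr.sp_ch_map fun j => ?_⟩
  cases hs : s j
  · exact ⟨1, one_ne_zero, by simp [gen, idx, hs, hge]⟩
  · exact ⟨P.ε⁻¹, inv_ne_zero (Fr.eps_ne j), by simp [gen, idx, hs, hgf]⟩

variable [Finite F] [FiniteDimensional F V]

/-- On a fixed chamber agreeing with the base chamber below `k`, the radical moves the next vector
inside `C k`. -/
theorem sub_mem_of_fixed {D : Ch P m} (hD : ∀ u ∈ Fr.U, u • D = D) {k : ℕ} (hk : k < m)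
    (hsp : D.sp k = Fr.C k) {x : V} (hx : x ∈ D.sp (k + 1)) (hx' : x ∉ Fr.C k) {u : P.isom}
    (hu : u ∈ Fr.U) : (u : V ≃ₗ[F] V) x - x ∈ Fr.C k := by
  have h1 : (u : V ≃ₗ[F] V) x ∈ D.sp (k + 1) := by
    have h2 := Submodule.mem_map_of_mem (f := (u : V ≃ₗ[F] V).toLinearMap) hx
    rw [← Ch.smul_sp, hD u hu] at h2
    exact h2
  have hsup : D.sp k ⊔ Submodule.span F {x} = D.sp (k + 1) :=
    sup_span_eq (D.mono (Nat.le_succ k))
      (by rw [D.dim _ (show k + 1 ≤ m from hk), D.dim _ hk.le]) hx (hsp ▸ hx')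
  rw [← hsup, hsp] at h1
  obtain ⟨y, hy, z, hz, hyz⟩ := Submodule.mem_sup.1 h1
  obtain ⟨c, rfl⟩ := Submodule.mem_span_singleton.1 hz
  have hd : (u : V ≃ₗ[F] V) x - x = y + (c - 1) • x := by
    rw [← hyz, sub_smul, one_smul]; abel
  by_cases hc : c - 1 = 0
  · rw [hd, hc, zero_smul, add_zero]; exact hy
  exfalso
  apply hx'
  have hall : ∀ d n, n + d = 2 * m + 1 → x ∈ Fr.C k ⊔ Fr.Lv n := by
    intro d
    induction d with
    | zero => exact fun n hn => Submodule.mem_sup_right (by rw [Fr.Lv_top (by omega)]; trivial)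
    | succ d ih =>
      intro n hn
      obtain ⟨a, ha, b, hb, hab⟩ := Submodule.mem_sup.1 (ih (n + 1) (by omega))
      have e : (c - 1) • x =
          ((u : V ≃ₗ[F] V) a - a - y) + ((u : V ≃ₗ[F] V) b - b) := by
        have e1 : (c - 1) • x = ((u : V ≃ₗ[F] V) x - x) - y := by rw [hd]; abel
        rw [e1, ← hab, map_add]
        abel
      have : (c - 1) • x ∈ Fr.C k ⊔ Fr.Lv n := by
        rw [e]
        exact add_mem (Submodule.mem_sup_left (sub_mem (sub_mem (Fr.U_C hu ha) ha) hy))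
          (Submodule.mem_sup_right (hu n b hb))
      exact (Submodule.smul_mem_iff _ hc).1 this
  have h0 := hall (2 * m + 1) 0 (by omega)
  rwa [Fr.Lv_of_le (Nat.zero_le _), C_zero, sup_bot_eq] at h0

/-- The root element adding `e i` to `e i'`. -/
theorem exists_root {i i' : Fin m} (h : (i : ℕ) < i') :
    ∃ u ∈ Fr.U, ∀ x, (u : V ≃ₗ[F] V) x - x = Fr.a i' x • Fr.e i - Fr.b i x • Fr.f i' := by
  classical
  have hne : i ≠ i' := fun e => by rw [e] at h; exact lt_irrefl _ h
  have hR : Rel P (Function.update Fr.e i' (Fr.e i' + Fr.e i))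
      (Function.update Fr.f i (Fr.f i - Fr.f i')) := by
    refine ⟨fun j => ?_, fun j => ?_, fun j l => ?_, fun j l => ?_, fun j l => ?_⟩
    · rcases eq_or_ne j i' with rfl | hj
      · rw [Function.update_self, N_add_eq P (Fr.rel.Bee _ _), Fr.rel.Ne, Fr.rel.Ne, add_zero]
      · rw [Function.update_of_ne hj, Fr.rel.Ne]
    · rcases eq_or_ne j i with rfl | hj
      · rw [Function.update_self, sub_eq_add_neg, ← neg_one_smul F (Fr.f i'),
          N_add_eq P (by rw [P.B_smul_right, Fr.rel.Bff, mul_zero]), P.N_smul, Fr.rel.Nf,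
          Fr.rel.Nf, mul_zero, add_zero]
      · rw [Function.update_of_ne hj, Fr.rel.Nf]
    · simp only [Function.update_apply]
      split_ifs <;> simp [Fr.rel.Bee]
    · simp only [Function.update_apply]
      split_ifs <;> simp [Fr.rel.Bff]
    · simp only [Function.update_apply]
      split_ifs <;> simp_all [Fr.rel.Bef, eq_comm]
  obtain ⟨u, hux, hue, huf, huw⟩ := Fr.exists_ext hR LinearMap.id
    (fun w hw j => by
      simp only [Function.update_apply, LinearMap.id_apply]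
      constructor <;> split_ifs <;> simp [(hw _).1, (hw _).2])
    (fun _ _ _ _ => rfl) fun _ _ => rfl
  refine ⟨u, Fr.mem_U_of (fun j => ?_) (fun j => ?_) fun w hw => ?_, fun x => ?_⟩
  · rw [hue]
    rcases eq_or_ne j i' with rfl | hj
    · rw [Function.update_self, add_sub_cancel_left]; exact Fr.e_mem_C h
    · rw [Function.update_of_ne hj, sub_self]; exact zero_mem _
  · rw [huf]
    rcases eq_or_ne j i with rfl | hj
    · rw [Function.update_self, sub_sub_cancel_left, neg_mem_iff, mem_perp_C]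
      intro l hl
      rw [b_f, if_neg]
      rintro rfl
      omega
    · rw [Function.update_of_ne hj, sub_self]; exact zero_mem _
  · rw [huw w hw, LinearMap.id_apply, sub_self]; exact zero_mem _
  · rw [hux, ext_sub, LinearMap.id_apply, sub_self, zero_add,
      Finset.sum_eq_single_of_mem i' (Finset.mem_univ _)
        (fun j _ hj => by rw [Function.update_of_ne hj, sub_self, smul_zero]),
      Finset.sum_eq_single_of_mem i (Finset.mem_univ _)
        (fun j _ hj => by rw [Function.update_of_ne hj, sub_self, smul_zero]),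
      Function.update_self, Function.update_self, add_sub_cancel_left, sub_sub_cancel_left,
      smul_neg, ← sub_eq_add_neg]

/-- The root element adding `e p` to `f l`. -/
theorem exists_root' {p l : Fin m} (h : (p : ℕ) < l) :
    ∃ u ∈ Fr.U, ∀ x,
      (u : V ≃ₗ[F] V) x - x = Fr.b l x • Fr.e p - (Fr.b p x * P.ε⁻¹) • Fr.e l := by
  classical
  have hne : p ≠ l := fun e => by rw [e] at h; exact lt_irrefl _ h
  have hε := Fr.eps_ne p
  let f' : Fin m → V := fun j =>
    if j = l then Fr.f l + Fr.e p else if j = p then Fr.f p + (-P.ε⁻¹) • Fr.e l else Fr.f j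
  have hR : Rel P Fr.e f' := by
    refine ⟨Fr.rel.Ne, fun j => ?_, Fr.rel.Bee, fun j k => ?_, fun j k => ?_⟩
    · simp only [f']
      split_ifs
      · rw [N_add_eq P (by rw [Fr.rel.Bfe, if_neg hne]), Fr.rel.Nf, Fr.rel.Ne, add_zero]
      · rw [N_add_eq P (by rw [P.B_smul_right, Fr.rel.Bfe, if_neg fun e => hne e.symm, mul_zero]),
          P.N_smul, Fr.rel.Nf, Fr.rel.Ne, mul_zero, add_zero]
      · exact Fr.rel.Nf j
    · have key : P.B (Fr.f l + Fr.e p) (Fr.f p + (-P.ε⁻¹) • Fr.e l) = 0 := by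
        simp [Fr.rel.Bff, Fr.rel.Bfe, Fr.rel.Bee, Fr.rel.Bef, hε]
      simp only [f']
      split_ifs with h1 h2 h3 h4 h5 h6
      all_goals try subst_vars
      all_goals first
        | exact key
        | exact P.eq_zero_symm key
        | simp_all [Fr.rel.Bff, Fr.rel.Bfe, Fr.rel.Bef, Fr.rel.Bee, eq_comm]
    · simp only [f']
      split_ifs <;> simp_all [Fr.rel.Bef, Fr.rel.Bee, eq_comm]
  obtain ⟨u, hux, hue, huf, huw⟩ := Fr.exists_ext hR LinearMap.id
    (fun w hw j => by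
      simp only [f', LinearMap.id_apply]
      refine ⟨(hw j).1, ?_⟩
      split_ifs <;> simp [(hw _).1, (hw _).2])
    (fun _ _ _ _ => rfl) fun _ _ => rfl
  refine ⟨u, Fr.mem_U_of (fun j => ?_) (fun j => ?_) fun w hw => ?_, fun x => ?_⟩
  · rw [hue, sub_self]; exact zero_mem _
  · rw [huf]
    simp only [f']
    split_ifs with h1 h2
    · subst h1
      rw [add_sub_cancel_left]
      exact Fr.C_le_perp (p + 1) _ (Fr.e_mem_C (Nat.lt_succ_self _))
    · subst h2
      rw [add_sub_cancel_left]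
      exact Submodule.smul_mem _ _ (Fr.C_le_perp (l + 1) _ (Fr.e_mem_C (Nat.lt_succ_self _)))
    · rw [sub_self]; exact zero_mem _
  · rw [huw w hw, LinearMap.id_apply, sub_self]; exact zero_mem _
  · rw [hux, ext_sub, LinearMap.id_apply, sub_self, zero_add,
      Finset.sum_eq_zero (s := Finset.univ) (f := fun j => Fr.a j x • (Fr.e j - Fr.e j))
        (fun j _ => by rw [sub_self, smul_zero]), zero_add,
      Finset.sum_eq_add (f := fun j => Fr.b j x • (f' j - Fr.f j)) l p (Ne.symm hne)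
        (fun j _ hj => by simp [f', hj.1, hj.2]) (by simp) (by simp)]
    simp only [f', if_pos, if_neg hne, add_sub_cancel_left, neg_smul, smul_neg, smul_smul]
    abel

/-- The root element adding a singular vector to `f l`. -/
theorem exists_root_single (l : Fin m) {w₀ : V} (hw₀ : Fr.IsW w₀) {c₀ : F}
    (hN : P.N (Fr.f l + w₀ + c₀ • Fr.e l) = 0) :
    ∃ u ∈ Fr.U, ∀ x, (u : V ≃ₗ[F] V) x - x =
      Fr.b l x • w₀ + (Fr.b l x * c₀ - P.ε⁻¹ * P.B w₀ (Fr.pr x)) • Fr.e l := by
  classical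
  have hε := Fr.eps_ne l
  let y := Fr.f l + w₀ + c₀ • Fr.e l
  have hye : ∀ j, P.B (Fr.e j) y = if j = l then 1 else 0 := fun j => by
    simp [y, (hw₀ j).1, Fr.rel.Bee, Fr.rel.Bef]
  have hyf : ∀ j, j ≠ l → P.B (Fr.f j) y = 0 := fun j hj => by
    simp [y, (hw₀ j).2, Fr.rel.Bff, Fr.rel.Bfe, Ne.symm hj]
  have hR : Rel P Fr.e (Function.update Fr.f l y) := by
    refine ⟨Fr.rel.Ne, fun j => ?_, Fr.rel.Bee, fun j k => ?_, fun j k => ?_⟩
    · rcases eq_or_ne j l with rfl | hj
      · rw [Function.update_self]; exact hN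
      · rw [Function.update_of_ne hj, Fr.rel.Nf]
    · simp only [Function.update_apply]
      split_ifs with h1 h2 h2
      · exact diag_zero P hN
      · exact P.eq_zero_symm (hyf _ h2)
      · exact hyf _ h1
      · exact Fr.rel.Bff j k
    · simp only [Function.update_apply]
      rcases eq_or_ne k l with rfl | h1
      · rw [if_pos rfl, hye]
      · rw [if_neg h1]; exact Fr.rel.Bef j k
  let θ : V →ₗ[F] V := LinearMap.id - (P.ε⁻¹ • P.B w₀).smulRight (Fr.e l)
  have hθ : ∀ w, θ w = w - (P.ε⁻¹ * P.B w₀ w) • Fr.e l := fun w => rfl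
  have hBw : ∀ w, Fr.IsW w → P.B w (Fr.e l) = 0 := fun w hw => P.eq_zero_symm (hw l).1
  obtain ⟨u, hux, hue, huf, huw⟩ := Fr.exists_ext hR θ
    (fun w hw j => by
      refine ⟨by simp [hθ, (hw j).1, Fr.rel.Bee], ?_⟩
      rcases eq_or_ne j l with rfl | hj
      · rw [Function.update_self, hθ]
        simp [y, (hw j).1, (hw j).2, Fr.rel.Bee, Fr.rel.Bfe, hBw w₀ hw₀]
        field_simp
        ring
      · rw [Function.update_of_ne hj, hθ]
        simp [(hw j).2, Fr.rel.Bfe, Ne.symm hj])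
    (fun w w' hw hw' => by simp [hθ, hBw w hw, (hw' l).1, Fr.rel.Bee])
    (fun w hw => by
      rw [hθ, sub_eq_add_neg, ← neg_smul, N_add_eq P (by rw [P.B_smul_right, hBw w hw, mul_zero]),
        P.N_smul, Fr.rel.Ne, mul_zero, add_zero])
  refine ⟨u, Fr.mem_U_of (fun j => ?_) (fun j => ?_) fun w hw => ?_, fun x => ?_⟩
  · rw [hue, sub_self]; exact zero_mem _
  · rw [huf]
    rcases eq_or_ne j l with rfl | hj
    · rw [Function.update_self, mem_perp_C]
      intro k hk
      rw [map_sub, b_apply, hye, b_f, sub_self]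
    · rw [Function.update_of_ne hj, sub_self]; exact zero_mem _
  · rw [huw w hw, hθ, sub_sub_cancel_left, neg_mem_iff]
    exact Submodule.smul_mem _ _ (Fr.e_mem_C l.2)
  · rw [hux, ext_sub, hθ, sub_sub_cancel_left,
      Finset.sum_eq_zero (s := Finset.univ) (f := fun j => Fr.a j x • (Fr.e j - Fr.e j))
        (fun j _ => by rw [sub_self, smul_zero]), add_zero,
      Finset.sum_eq_single_of_mem l (Finset.mem_univ _)
        (fun j _ hj => by rw [Function.update_of_ne hj, sub_self, smul_zero]), Function.update_self]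
    simp only [y, add_assoc, add_sub_cancel_left, smul_add, smul_smul, sub_smul]
    abel

/-- The root element of the last type. -/
theorem exists_root_last (l : Fin m) (_hl : (l : ℕ) + 1 = m) {w₀ : V} (hw₀ : Fr.IsW w₀) {c₀ : F}
    (hN : P.N (Fr.f l + w₀ + c₀ • Fr.e l) = 0) :
    ∃ u ∈ Fr.U, ∀ x, (u : V ≃ₗ[F] V) x - x =
      Fr.b l x • w₀ + (Fr.b l x * c₀ - P.ε⁻¹ * P.B w₀ (Fr.pr x)) • Fr.e l :=
  Fr.exists_root_single l hw₀ hN

/-- A fixed chamber agrees with the base chamber below the top. -/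
theorem fixed_sp {D : Ch P m} (hD : ∀ u ∈ Fr.U, u • D = D) : ∀ k < m, D.sp k = Fr.C k := by
  intro k
  induction k with
  | zero => intro _; rw [D.sp_zero, C_zero]
  | succ k ih =>
    intro hk
    have hk' : k < m := by omega
    have hsp := ih hk'
    obtain ⟨x, hx, hx'⟩ : ∃ x ∈ D.sp (k + 1), x ∉ Fr.C k := by
      by_contra h
      push Not at h
      have h1 := Submodule.finrank_mono (show D.sp (k + 1) ≤ D.sp k from hsp.symm ▸ h)
      rw [D.dim _ hk.le, D.dim _ hk'.le] at h1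
      omega
    have hΔ := fun {u : P.isom} (hu : u ∈ Fr.U) => Fr.sub_mem_of_fixed hD hk' hsp hx hx' hu
    have hlow : ∀ j : Fin m, (j : ℕ) < k → Fr.b j x = 0 := fun j hj =>
      (D.ts_at (k + 1) _ (D.mono (Nat.le_succ k) (hsp.symm ▸ Fr.e_mem_C hj))).2 _ hx
    have hroot : ∀ i i' : Fin m, (i' : ℕ) = i + 1 → k ≤ i → Fr.a i' x = 0 ∧ Fr.b i x = 0 := by
      intro i i' hii hki
      obtain ⟨u, hu, hux⟩ := Fr.exists_root (i := i) (i' := i') (by omega)
      have h1 := hΔ hu
      rw [hux, mem_C_iff] at h1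
      have hb := h1.2.1 i'
      have ha := h1.2.2 i hki
      simp [a_e, a_f] at ha
      simp [b_e, b_f] at hb
      exact ⟨ha, hb⟩
    have hb0 : ∀ j, Fr.b j x = 0 := by
      intro j
      rcases lt_or_ge (j : ℕ) k with hj | hj
      · exact hlow j hj
      rcases lt_or_ge ((j : ℕ) + 1) m with hj' | hj'
      · exact (hroot j ⟨j + 1, hj'⟩ rfl hj).2
      · obtain ⟨u, hu, hux⟩ := Fr.exists_root' (p := ⟨k, hk'⟩) (l := j) (by simp; omega)
        have h1 := hΔ hu
        rw [hux, mem_C_iff] at h1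
        have h2 := h1.2.2 ⟨k, hk'⟩ le_rfl
        have hne : j ≠ ⟨k, hk'⟩ := fun e => by rw [e] at hj'; simp at hj'; omega
        simpa [a_e, hne] using h2
    have hxC : x ∈ Fr.C (k + 1) := by
      have h1 := Fr.mem_C_of_singular (Fr.mem_perp_C.2 fun j _ => hb0 j) (D.ts_at _ x hx).1
      rw [mem_C_iff] at h1 ⊢
      refine ⟨h1.1, hb0, fun j hj => ?_⟩
      exact (hroot ⟨(j : ℕ) - 1, by omega⟩ j (by simp; omega) (by simp; omega)).1
    have hle : D.sp (k + 1) ≤ Fr.C (k + 1) := by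
      rw [← sup_span_eq (D.mono (Nat.le_succ k)) (by rw [D.dim _ hk.le, D.dim _ hk'.le]) hx
        (hsp.symm ▸ hx'), hsp]
      exact sup_le (Fr.C_mono (Nat.le_succ k)) ((Submodule.span_singleton_le_iff_mem _ _).2 hxC)
    refine Submodule.eq_of_le_of_finrank_eq hle ?_
    rw [D.dim _ hk.le, ← C0_sp, Fr.C0.dim _ hk.le]

/-- In the thick case only the base chamber is fixed. -/
theorem fixed_eq {D : Ch P m} (hD : ∀ u ∈ Fr.U, u • D = D) {l : Fin m} (hl : (l : ℕ) + 1 = m)
    {w₀ : V} (hw₀ : Fr.IsW w₀) {c₀ : F} (hne : w₀ ≠ 0 ∨ c₀ ≠ 0)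
    (hN : P.N (Fr.f l + w₀ + c₀ • Fr.e l) = 0) : D = Fr.C0 := by
  refine Ch.ext' fun i hi => ?_
  rw [C0_sp]
  rcases Nat.lt_or_ge i m with h | h
  · exact Fr.fixed_sp hD i h
  obtain rfl : i = (l : ℕ) + 1 := by omega
  have hsp := Fr.fixed_sp hD l l.2
  obtain ⟨x, hx, hx'⟩ : ∃ x ∈ D.sp (l + 1), x ∉ Fr.C l := by
    by_contra h0
    push Not at h0
    have h1 := Submodule.finrank_mono (show D.sp (l + 1) ≤ D.sp l from hsp.symm ▸ h0)
    rw [D.dim _ hi, D.dim _ (by omega)] at h1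
    omega
  obtain ⟨u, hu, hux⟩ := Fr.exists_root_last l hl hw₀ hN
  have h1 := Fr.sub_mem_of_fixed hD l.2 hsp hx hx' hu
  rw [hux, mem_C_iff] at h1
  have hbl : Fr.b l x = 0 := by
    by_contra hb
    have h2 := h1.1
    rw [map_add, map_smul, map_smul, pr_e, smul_zero, add_zero, Fr.pr_of_isW hw₀,
      smul_eq_zero] at h2
    have hw0 : w₀ = 0 := h2.resolve_left hb
    have h3 := h1.2.2 l le_rfl
    simp [hw0, a_e, hb] at h3
    exact hne.elim (fun h4 => h4 hw0) (fun h4 => h4 h3)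
  have hb : ∀ j, Fr.b j x = 0 := fun j => by
    rcases lt_or_ge (j : ℕ) l with hj | hj
    · exact (D.ts_at (l + 1) _ (D.mono (Nat.le_succ l) (hsp.symm ▸ Fr.e_mem_C hj))).2 _ hx
    · rw [show j = l from Fin.ext (by omega)]; exact hbl
  have hxC : x ∈ Fr.C (l + 1) :=
    Fr.C_mono hl.ge (Fr.mem_C_of_singular (Fr.mem_perp_C.2 fun j _ => hb j) (D.ts_at _ x hx).1)
  refine Submodule.eq_of_le_of_finrank_eq ?_ (by rw [D.dim _ hi, ← C0_sp, Fr.C0.dim _ hi])
  rw [← sup_span_eq (D.mono (Nat.le_succ l)) (by rw [D.dim _ hi, D.dim _ (by omega)]) hx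
    (hsp.symm ▸ hx'), hsp]
  exact sup_le (Fr.C_mono (Nat.le_succ _)) ((Submodule.span_singleton_le_iff_mem _ _).2 hxC)

omit [Finite F] in
/-- A thin panel has two chambers. -/
theorem thin_panel {D : Ch P m} {l : Fin m} (hl : (l : ℕ) + 1 = m)
    (hW : ∀ w, Fr.IsW w → w = 0) (hρ : ∀ r, P.ρ r = 0 → r = 0)
    (hD : ∀ k < m, D.sp k = Fr.C k) : D = Fr.C0 ∨ D = Fr.P0 l := by
  have hsp := hD l l.2
  obtain ⟨x, hx, hx'⟩ : ∃ x ∈ D.sp (l + 1), x ∉ Fr.C l := by
    by_contra h0
    push Not at h0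
    have h1 := Submodule.finrank_mono (show D.sp (l + 1) ≤ D.sp l from hsp.symm ▸ h0)
    rw [D.dim _ l.2, D.dim _ (by omega)] at h1
    omega
  have hb : ∀ j : Fin m, (j : ℕ) < l → Fr.b j x = 0 := fun j hj =>
    (D.ts_at (l + 1) _ (D.mono (Nat.le_succ l) (hsp.symm ▸ Fr.e_mem_C hj))).2 _ hx
  have hpr := hW _ (Fr.pr_isW x)
  have hab : σ (Fr.a l x) * Fr.b l x = 0 := by
    have hN := (D.ts_at (l + 1) x hx).1
    rw [Fr.expand x, Fr.rel.N_comb (Fr.pr_isW x), hpr, N_zero, zero_add,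
      Finset.sum_eq_single_of_mem l (Finset.mem_univ _)] at hN
    · exact hρ _ hN
    · intro j _ hj
      rw [hb j (by have := j.2; have : (j : ℕ) ≠ l := fun e => hj (Fin.ext e); omega), mul_zero]
  have hsup : D.sp (l + 1) = Fr.C l ⊔ Submodule.span F {x} := by
    rw [← sup_span_eq (D.mono (Nat.le_succ l)) (by rw [D.dim _ l.2, D.dim _ (le_of_lt l.2)]) hx
      (hsp.symm ▸ hx'), hsp]
  by_cases hbl : Fr.b l x = 0
  · left
    refine Ch.ext' fun i hi => ?_
    rw [C0_sp]
    rcases Nat.lt_or_ge i m with h | h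
    · exact hD i h
    obtain rfl : i = (l : ℕ) + 1 := by omega
    have hb' : ∀ j, Fr.b j x = 0 := fun j => by
      rcases lt_or_ge (j : ℕ) l with hj | hj
      · exact hb j hj
      · rw [show j = l from Fin.ext (by omega)]; exact hbl
    refine Submodule.eq_of_le_of_finrank_eq ?_ (by rw [D.dim _ hi, ← C0_sp, Fr.C0.dim _ hi])
    rw [hsup]
    exact sup_le (Fr.C_mono (Nat.le_succ _)) ((Submodule.span_singleton_le_iff_mem _ _).2
      (Fr.mem_C_iff.2 ⟨hpr, hb', fun j hj => absurd j.2 (by omega)⟩))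
  · right
    have hal : Fr.a l x = 0 := by
      have := (mul_eq_zero.1 hab).resolve_right hbl
      rwa [map_eq_zero] at this
    refine Ch.ext' fun i hi => ?_
    have hCle : ∀ k ≤ (l : ℕ), Fr.C k = (Fr.P0 l).sp k := by
      intro k hk
      rw [ch_sp, C, idxSet, Set.image_image]
      congr 1
      refine Set.image_congr fun j (hj : (j : ℕ) < k) => ?_
      have hjl : j ≠ l := fun e => by rw [e] at hj; omega
      simp [gen, idx, Function.update_of_ne hjl]
    rcases Nat.lt_or_ge i m with h | h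
    · rw [hD i h, hCle i (by omega)]
    obtain rfl : i = (l : ℕ) + 1 := by omega
    refine Submodule.eq_of_le_of_finrank_eq ?_ (by rw [D.dim _ hi, (Fr.P0 l).dim _ hi])
    rw [hsup]
    refine sup_le (hCle l le_rfl ▸ (Fr.P0 l).mono (Nat.le_succ _))
      ((Submodule.span_singleton_le_iff_mem _ _).2 ?_)
    have hfl : Fr.f l ∈ (Fr.P0 l).sp (l + 1) := by
      have := Fr.gen_mem_ch (w := (1, Function.update (fun _ => false) l true))
        (Nat.lt_succ_self (l : ℕ))
      simpa [gen, idx] using this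
    rw [Fr.expand x, hpr, zero_add]
    refine add_mem (sum_mem fun j _ => ?_) (sum_mem fun j _ => ?_)
    · rcases eq_or_ne j l with rfl | hj
      · rw [hal, zero_smul]; exact zero_mem _
      · have : (j : ℕ) ≠ l := fun e => hj (Fin.ext e)
        refine Submodule.smul_mem _ _ ((Fr.P0 l).mono (Nat.le_succ _) (hCle l le_rfl ▸ ?_))
        exact Fr.e_mem_C (by have := j.2; omega)
    · rcases eq_or_ne j l with rfl | hj
      · exact Submodule.smul_mem _ _ hfl
      · have : (j : ℕ) ≠ l := fun e => hj (Fin.ext e)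
        rw [hb j (by have := j.2; omega), zero_smul]; exact zero_mem _

end Frame

end Cfsg.Agent.Lib.SteinbergChar
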