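import Cfsg.Prelude.Def_Characters
import Cfsg.Agent.Lib.Characters.Basic
import Mathlib

/-!
# An abstract construction of Steinberg characters

`G` acts on a finite set `X` ("chambers") and preserves a family `L` of finite subsets ("panels").
The functions on `X` summing to zero over every panel form an invariant space.  When a subgroup `U`
fixing a chamber `C` is regular on the chambers without ascent, that space affords an irreducible
character of degree `|U|` vanishing on `U \ {1}`.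
-/

set_option autoImplicit false
set_option linter.style.haveILetI false

namespace Cfsg.Agent.Lib.SteinbergChar

open Module
open scoped ComplexConjugate

variable {G X : Type*} [Group G] [MulAction G X]

/-- Functions with zero sum over every member of `L`. -/
def zeroSums (L : Set (Finset X)) : Submodule ℂ (X → ℂ) where
  carrier := {f | ∀ ℓ ∈ L, ∑ x ∈ ℓ, f x = 0}
  add_mem' {a b} ha hb ℓ hℓ := by simp [Finset.sum_add_distrib, ha ℓ hℓ, hb ℓ hℓ]
  zero_mem' ℓ _ := by simp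
  smul_mem' c f hf ℓ hℓ := by simp [← Finset.mul_sum, hf ℓ hℓ]

theorem mem_zeroSums {L : Set (Finset X)} {f : X → ℂ} :
    f ∈ zeroSums L ↔ ∀ ℓ ∈ L, ∑ x ∈ ℓ, f x = 0 := Iff.rfl

/-- The data for the construction. -/
structure Datum (G X : Type*) [Group G] [MulAction G X] where
  /-- panels -/
  L : Set (Finset X)
  L_smul : ∀ (g : G), ∀ ℓ ∈ L, ℓ.map ⟨(g • ·), MulAction.injective g⟩ ∈ L
  U : Subgroup G
  C : X
  U_fix : ∀ u ∈ U, u • C = C
  x₀ : X
  U_free : ∀ u ∈ U, u • x₀ = x₀ → u = 1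
  rank : X → ℕ
  asc : ∀ x : X, (∀ u ∈ U, u • x₀ ≠ x) → ∃ ℓ ∈ L, x ∈ ℓ ∧ ∀ y ∈ ℓ, y ≠ x → rank x < rank y
  v : X → ℂ
  v_mem : v ∈ zeroSums L
  v_x₀ : v x₀ ≠ 0
  v_supp : ∀ u ∈ U, u ≠ 1 → v (u • x₀) = 0
  orbit : ∀ f ∈ zeroSums L, (∀ g : G, f (g • C) = 0) → f x₀ = 0

namespace Datum

variable (D : Datum G X)

theorem translate_mem (g : G) {f : X → ℂ} (hf : f ∈ zeroSums D.L) :
    (fun x => f (g • x)) ∈ zeroSums D.L := by
  intro ℓ hℓ
  have h := hf _ (D.L_smul g ℓ hℓ)
  rwa [Finset.sum_map] at h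

/-- The action on the space of zero-sum functions. -/
def rep : Representation ℂ G (zeroSums D.L) where
  toFun g :=
    { toFun := fun f => ⟨fun x => f.1 (g⁻¹ • x), D.translate_mem g⁻¹ f.2⟩
      map_add' := fun _ _ => rfl
      map_smul' := fun _ _ => rfl }
  map_one' := by
    refine LinearMap.ext fun f => Subtype.ext (funext fun x => ?_)
    show f.1 ((1 : G)⁻¹ • x) = f.1 x
    simp
  map_mul' g h := by
    refine LinearMap.ext fun f => Subtype.ext (funext fun x => ?_)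
    show f.1 ((g * h)⁻¹ • x) = f.1 (h⁻¹ • g⁻¹ • x)
    rw [mul_inv_rev, mul_smul]

theorem rep_apply (g : G) (f : zeroSums D.L) (x : X) : (D.rep g f).1 x = f.1 (g⁻¹ • x) := rfl

theorem eq_zero_of_orbit [Fintype X] {f : X → ℂ} (hf : f ∈ zeroSums D.L)
    (h0 : ∀ u ∈ D.U, f (u • D.x₀) = 0) : f = 0 := by
  classical
  by_contra hne
  obtain ⟨y, hy⟩ := Function.ne_iff.1 hne
  obtain ⟨x, hx, hmax⟩ := Finset.exists_max_image (Finset.univ.filter fun x => f x ≠ 0) D.rank
    ⟨y, by simpa using hy⟩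
  rw [Finset.mem_filter] at hx
  obtain ⟨ℓ, hℓ, hxℓ, hgt⟩ := D.asc x fun u hu h => hx.2 (h ▸ h0 u hu)
  apply hx.2
  have h := hf ℓ hℓ
  rw [Finset.sum_eq_single_of_mem x hxℓ] at h
  · exact h
  · intro z hz hzx
    by_contra hzne
    have := hmax z (by simpa using hzne)
    have := hgt z hz hzx
    omega

/-- Restriction to the orbit of `x₀` under `U`. -/
def res : zeroSums D.L →ₗ[ℂ] (D.U → ℂ) where
  toFun f u := f.1 ((u : G) • D.x₀)
  map_add' _ _ := rfl
  map_smul' _ _ := rfl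

theorem res_injective [Fintype X] : Function.Injective D.res := by
  rw [injective_iff_map_eq_zero]
  intro f hf
  exact Subtype.ext (D.eq_zero_of_orbit f.2 fun u hu => congrFun hf ⟨u, hu⟩)

theorem res_surjective [Finite G] : Function.Surjective D.res := by
  classical
  letI := Fintype.ofFinite G
  intro a
  refine ⟨∑ u : D.U, (a u * (D.v D.x₀)⁻¹) • D.rep (u : G) ⟨D.v, D.v_mem⟩, funext fun w => ?_⟩
  rw [map_sum, Finset.sum_apply, Finset.sum_eq_single_of_mem w (Finset.mem_univ _)]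
  · rw [map_smul, Pi.smul_apply, smul_eq_mul]
    show a w * _ * D.v ((w : G)⁻¹ • (w : G) • D.x₀) = a w
    rw [inv_smul_smul, inv_mul_cancel_right₀ D.v_x₀]
  · intro u _ hu
    rw [map_smul, Pi.smul_apply, smul_eq_mul]
    show a u * _ * D.v ((u : G)⁻¹ • (w : G) • D.x₀) = 0
    rw [← mul_smul, D.v_supp _ (mul_mem (inv_mem u.2) w.2), mul_zero]
    intro h
    exact hu (Subtype.ext (inv_inj.1 (mul_eq_one_iff_eq_inv.1 h)))

/-- The restriction as an equivalence. -/
noncomputable def resEquiv [Fintype X] [Finite G] : zeroSums D.L ≃ₗ[ℂ] (D.U → ℂ) :=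
  LinearEquiv.ofBijective D.res ⟨D.res_injective, D.res_surjective⟩

theorem character_of_mem [Fintype X] [Finite G] {g : G} (hg : g ∈ D.U) [Decidable (g = 1)] :
    D.rep.character g = if g = 1 then (Nat.card D.U : ℂ) else 0 := by
  classical
  letI := Fintype.ofFinite G
  set T : (D.U → ℂ) →ₗ[ℂ] (D.U → ℂ) := LinearMap.funLeft ℂ ℂ fun u => (⟨g, hg⟩ : D.U)⁻¹ * u
  have hT : D.rep g = (D.resEquiv.symm).conj T := by
    refine LinearMap.ext fun f => ?_
    apply D.resEquiv.injective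
    rw [LinearEquiv.conj_apply, LinearMap.comp_apply, LinearMap.comp_apply]
    simp only [LinearEquiv.coe_coe, LinearEquiv.symm_symm, LinearEquiv.apply_symm_apply]
    funext u
    show f.1 (g⁻¹ • (u : G) • D.x₀) = f.1 (((⟨g, hg⟩ : D.U)⁻¹ * u : D.U) • D.x₀)
    rw [← mul_smul]
    rfl
  have htr : LinearMap.trace ℂ (D.U → ℂ) T = ∑ u : D.U, if g = 1 then (1 : ℂ) else 0 := by
    rw [LinearMap.trace_eq_matrix_trace ℂ (Pi.basisFun ℂ D.U), Matrix.trace]
    refine Finset.sum_congr rfl fun u _ => ?_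
    rw [Matrix.diag_apply, LinearMap.toMatrix_apply, Pi.basisFun_repr, Pi.basisFun_apply]
    show (Pi.single u (1 : ℂ) : D.U → ℂ) ((⟨g, hg⟩ : D.U)⁻¹ * u) = _
    rw [Pi.single_apply]
    exact if_congr (by rw [mul_eq_right, inv_eq_one, Subtype.ext_iff]; rfl) rfl rfl
  rw [Representation.character, hT, LinearMap.trace_conj', htr, Finset.sum_const, Finset.card_univ,
    Nat.card_eq_fintype_card]
  split <;> simp

theorem character_one [Fintype X] [Finite G] : D.rep.character 1 = (Nat.card D.U : ℂ) := by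
  classical
  rw [D.character_of_mem D.U.one_mem, if_pos rfl]

/-- An invariant non-zero subspace contains the vector which is constant on the orbit of `x₀`. -/
theorem exists_const_mem [Fintype X] [Finite G] (N : Submodule ℂ (zeroSums D.L))
    (hN : ∀ (g : G), ∀ f ∈ N, D.rep g f ∈ N) (h0 : N ≠ ⊥) :
    ∃ f ∈ N, D.res f = fun _ => 1 := by
  classical
  letI := Fintype.ofFinite G
  obtain ⟨f, hfN, hf0⟩ := N.ne_bot_iff.1 h0
  obtain ⟨g, hg⟩ : ∃ g : G, f.1 (g • D.C) ≠ 0 := by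
    by_contra hall
    push Not at hall
    refine hf0 (Subtype.ext (D.eq_zero_of_orbit f.2 fun u _ => ?_))
    have h := D.orbit (D.rep u⁻¹ f).1 (D.rep u⁻¹ f).2 fun k => by
      rw [rep_apply, inv_inv, ← mul_smul]
      exact hall _
    rwa [rep_apply, inv_inv] at h
  set f₁ := D.rep g⁻¹ f with hf₁
  set A := ∑ u : D.U, D.rep (u : G) f₁ with hA
  have hval : ∀ x, A.1 x = ∑ u : D.U, f₁.1 ((u : G)⁻¹ • x) := fun x => by
    rw [hA, Submodule.coe_sum, Finset.sum_apply]
    rfl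
  have hC : A.1 D.C ≠ 0 := by
    rw [hval, Finset.sum_congr rfl fun u _ => by rw [D.U_fix _ (inv_mem u.2)],
      Finset.sum_const, Finset.card_univ, nsmul_eq_mul, hf₁, rep_apply, inv_inv]
    exact mul_ne_zero (Nat.cast_ne_zero.2 Fintype.card_ne_zero) hg
  have hconst : ∀ w : D.U, A.1 ((w : G) • D.x₀) = A.1 D.x₀ := by
    intro w
    rw [hval, hval]
    refine Fintype.sum_equiv (Equiv.mulLeft w⁻¹) _ _ fun u => ?_
    simp [mul_smul]
  have hc : A.1 D.x₀ ≠ 0 := by
    intro h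
    apply hC
    have : A.1 = 0 := D.eq_zero_of_orbit A.2 fun u hu => (hconst ⟨u, hu⟩).trans h
    rw [this]; rfl
  refine ⟨(A.1 D.x₀)⁻¹ • A, N.smul_mem _ (sum_mem fun u _ => hN _ _ (hN _ _ hfN)), funext fun w => ?_⟩
  show (A.1 D.x₀)⁻¹ * A.1 ((w : G) • D.x₀) = 1
  rw [hconst, inv_mul_cancel₀ hc]

/-- An invariant subspace is trivial or everything. -/
theorem eq_bot_or_top [Fintype X] [Finite G] (N : Submodule ℂ (zeroSums D.L))
    (hN : ∀ (g : G), ∀ f ∈ N, D.rep g f ∈ N) : N = ⊥ ∨ N = ⊤ := by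
  classical
  by_contra hcon
  push Not at hcon
  haveI : Module.Free ℂ N := Module.Free.of_divisionRing ℂ N
  let b := Module.finBasis ℂ N
  let pr : zeroSums D.L →ₗ[ℂ] (Fin (finrank ℂ N) → ℂ) :=
    { toFun := fun f i => ∑ x, conj ((b i).1.1 x) * f.1 x
      map_add' := fun f f' => funext fun i => by simp [mul_add, Finset.sum_add_distrib]
      map_smul' := fun c f => funext fun i => by simp [Finset.mul_sum, mul_left_comm] }
  have hker : ∀ f, f ∈ LinearMap.ker pr ↔ ∀ n ∈ N, ∑ x, conj (n.1 x) * f.1 x = 0 := by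
    intro f
    refine ⟨fun h n hn => ?_, fun h => LinearMap.mem_ker.2 (funext fun i => h _ (b i).2)⟩
    have e : (⟨n, hn⟩ : N) = ∑ i, b.repr ⟨n, hn⟩ i • b i := (b.sum_repr _).symm
    have e' : ∀ x, n.1 x = ∑ i, b.repr ⟨n, hn⟩ i * (b i).1.1 x := fun x => by
      have h1 : n = ((∑ i, b.repr ⟨n, hn⟩ i • b i : N) : zeroSums D.L) :=
        congrArg Subtype.val e
      conv_lhs => rw [h1, Submodule.coe_sum, Submodule.coe_sum, Finset.sum_apply]
      rfl
    simp only [e', map_sum, map_mul, Finset.sum_mul]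
    rw [Finset.sum_comm]
    refine Finset.sum_eq_zero fun i _ => ?_
    simp only [mul_assoc, ← Finset.mul_sum]
    rw [show ∑ x, conj ((b i).1.1 x) * f.1 x = 0 from congrFun (LinearMap.mem_ker.1 h) i, mul_zero]
  have hinv : ∀ (g : G), ∀ f ∈ LinearMap.ker pr, D.rep g f ∈ LinearMap.ker pr := by
    intro g f hf
    rw [hker] at hf ⊢
    intro n hn
    rw [← hf _ (hN g⁻¹ n hn)]
    refine Fintype.sum_equiv (MulAction.toPerm g⁻¹) _ _ fun x => ?_
    simp [rep_apply]
  have hne : LinearMap.ker pr ≠ ⊥ := by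
    intro h
    have h1 := LinearMap.finrank_le_finrank_of_injective (LinearMap.ker_eq_bot.1 h)
    rw [finrank_fin_fun] at h1
    exact hcon.2 (Submodule.eq_top_of_finrank_eq (le_antisymm (Submodule.finrank_le N) h1))
  obtain ⟨f, hf, hf1⟩ := D.exists_const_mem N hN hcon.1
  obtain ⟨f', hf', hf'1⟩ := D.exists_const_mem _ hinv hne
  obtain rfl : f = f' := D.res_injective (hf1.trans hf'1.symm)
  have h0 := (hker f).1 hf' f hf
  have hsq : ∑ x, Complex.normSq (f.1 x) = 0 := by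
    apply Complex.ofReal_injective
    push_cast
    rw [← h0]
    exact Finset.sum_congr rfl fun x _ => Complex.normSq_eq_conj_mul_self
  have hz : f.1 D.x₀ = 0 := Complex.normSq_eq_zero.1
    ((Finset.sum_eq_zero_iff_of_nonneg fun x _ => Complex.normSq_nonneg _).1 hsq _
      (Finset.mem_univ _))
  have h1 : f.1 ((1 : G) • D.x₀) = 1 := congrFun hf1 (1 : D.U)
  rw [one_smul, hz] at h1
  exact zero_ne_one h1

theorem rep_eq_one [Fintype X] {z : G} (hzU : ∀ u ∈ D.U, z * u = u * z)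
    (hz : z • D.x₀ = D.x₀) : D.rep z = 1 := by
  refine LinearMap.ext fun f => D.res_injective (funext fun u => ?_)
  show f.1 (z⁻¹ • (u : G) • D.x₀) = f.1 ((u : G) • D.x₀)
  have : z⁻¹ • (u : G) • D.x₀ = (u : G) • D.x₀ := by
    rw [inv_smul_eq_iff, ← mul_smul, hzU _ u.2, mul_smul, hz]
  rw [this]

/-- A finite `p`-group image and the Sylow criterion. -/
theorem exists_steinberg [Fintype X] [Finite G] (p : ℕ) [Fact p.Prime] (N : Subgroup G) [N.Normal]
    (hNU : ∀ z ∈ N, ∀ u ∈ D.U, z * u = u * z) (hNx : ∀ z ∈ N, z • D.x₀ = D.x₀)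
    (hNC : ∀ z ∈ N, z • D.C = D.C) (hU : IsPGroup p D.U)
    (hpel : ∀ h : G, (∃ k, orderOf h = p ^ k) →
      (∀ u ∈ D.U, u • h • D.C = h • D.C) → h ∈ D.U) :
    ∃ χ : G ⧸ N → ℂ, Cfsg.IsIrrCharacter (G ⧸ N) χ ∧
      ∀ P : Sylow p (G ⧸ N), χ 1 = Nat.card P ∧ ∀ x : G ⧸ N, x ∈ P → x ≠ 1 → χ x = 0 := by
  classical
  have hk : N ≤ D.rep.ker := fun z hz => D.rep_eq_one (hNU z hz) (hNx z hz)
  let σ : Representation ℂ (G ⧸ N) (zeroSums D.L) := QuotientGroup.lift N D.rep hk
  have hσ : ∀ g : G, σ g = D.rep g := fun g => rfl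
  have hnt : Nontrivial (zeroSums D.L) := ⟨⟨⟨D.v, D.v_mem⟩, 0, fun h => D.v_x₀
    (congrFun (congrArg Subtype.val h) D.x₀)⟩⟩
  haveI : σ.IsIrreducible := by
    haveI : Nontrivial (Subrepresentation σ) :=
      ⟨⊥, ⊤, fun hbt => (bot_ne_top : (⊥ : Submodule ℂ (zeroSums D.L)) ≠ ⊤)
        (congrArg Subrepresentation.toSubmodule hbt)⟩
    refine ⟨fun P => ?_⟩
    rcases D.eq_bot_or_top P.toSubmodule fun g f hf => P.apply_mem_toSubmodule (g : G ⧸ N) hf
      with h | h
    · exact Or.inl (Subrepresentation.toSubmodule_injective h)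
    · exact Or.inr (Subrepresentation.toSubmodule_injective h)
  refine ⟨σ.character, Characters.Basic.isIrrCharacter_character σ, ?_⟩
  let π := QuotientGroup.mk' N
  have hinj : ∀ u ∈ D.U, π u = 1 → u = 1 := fun u hu h =>
    D.U_free u hu (hNx u ((QuotientGroup.eq_one_iff u).1 h))
  obtain ⟨P₀, hP₀⟩ := (hU.map π).exists_le_sylow
  have heq : D.U.map π = (P₀ : Subgroup (G ⧸ N)) := by
    by_contra hne
    have hlt : (D.U.map π).subgroupOf (P₀ : Subgroup (G ⧸ N)) < ⊤ := by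
      rw [lt_top_iff_ne_top, Ne, Subgroup.subgroupOf_eq_top]
      exact fun h => hne (le_antisymm hP₀ h)
    have hnc : NormalizerCondition (P₀ : Subgroup (G ⧸ N)) :=
      Group.normalizerCondition_of_isNilpotent (G := (P₀ : Subgroup (G ⧸ N)))
        (h := P₀.isPGroup'.isNilpotent)
    obtain ⟨y, hy1, hy2⟩ := SetLike.exists_of_lt (hnc _ hlt)
    apply hy2
    rw [Subgroup.mem_subgroupOf]
    obtain ⟨a, ha⟩ := IsPGroup.iff_orderOf.1 P₀.isPGroup' y
    obtain ⟨h₀, h₀y⟩ := QuotientGroup.mk'_surjective N (y : G ⧸ N)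
    -- a lift whose order is a power of `p`
    obtain ⟨b, s, hs, hbs⟩ := Nat.exists_eq_pow_mul_and_not_dvd
      (orderOf_pos h₀).ne' p (Fact.out : p.Prime).ne_one
    obtain ⟨c, hc0, hc1⟩ := Nat.chineseRemainder
      (((Fact.out : p.Prime).coprime_iff_not_dvd.2 hs).symm.pow_right a) 0 1
    set h := h₀ ^ c with hh
    have hπ : π h = (y : G ⧸ N) := by
      have hyo : orderOf (y : G ⧸ N) = p ^ a := (Subgroup.orderOf_coe y).trans ha
      rw [hh, map_pow]
      show (π h₀) ^ c = _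
      rw [show π h₀ = (y : G ⧸ N) from h₀y]
      conv_rhs => rw [← pow_one (y : G ⧸ N)]
      rw [pow_eq_pow_iff_modEq, hyo]
      exact hc1
    have hord : ∃ k, orderOf h = p ^ k := by
      have hd : orderOf h ∣ p ^ b := by
        refine orderOf_dvd_of_pow_eq_one ?_
        rw [hh, ← pow_mul, ← orderOf_dvd_iff_pow_eq_one, hbs, mul_comm]
        exact Nat.mul_dvd_mul_right (Nat.modEq_zero_iff_dvd.1 hc0) _
      obtain ⟨k, _, hk'⟩ := (Nat.dvd_prime_pow (Fact.out : p.Prime)).1 hd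
      exact ⟨k, hk'⟩
    refine Subgroup.mem_map.2 ⟨h, hpel h hord fun u hu => ?_, hπ⟩
    have hmem : π (h⁻¹ * u * h) ∈ D.U.map π := by
      have hu' : π u ∈ D.U.map π := Subgroup.mem_map_of_mem _ hu
      have := (Subgroup.mem_normalizer_iff''.1 hy1 ⟨π u, hP₀ hu'⟩).1
        (Subgroup.mem_subgroupOf.2 hu')
      rw [Subgroup.mem_subgroupOf] at this
      simpa [map_mul, map_inv, hπ] using this
    obtain ⟨u', hu', hu'e⟩ := Subgroup.mem_map.1 hmem
    have hz := (QuotientGroup.eq).1 hu'e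
    have : (h⁻¹ * u * h) • D.C = D.C := by
      rw [← mul_inv_cancel_left u' (h⁻¹ * u * h), mul_smul, hNC _ hz, D.U_fix _ hu']
    rwa [mul_smul, mul_smul, inv_smul_eq_iff] at this
  intro P
  obtain ⟨g, hg⟩ := MulAction.exists_smul_eq (G ⧸ N) P₀ P
  have hcls := Characters.Basic.isClassFunction_character σ
  have hcard : Nat.card P = Nat.card D.U := by
    rw [Nat.card_congr (Sylow.equiv P P₀).toEquiv]
    show Nat.card (P₀ : Subgroup (G ⧸ N)) = _
    rw [← heq]
    exact (Nat.card_congr (Equiv.ofBijective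
      (fun u : D.U => (⟨π u, Subgroup.mem_map_of_mem _ u.2⟩ : D.U.map π))
      ⟨fun u w huw => Subtype.ext (by
          have h1 : π ((u : G)⁻¹ * w) = 1 := by
            rw [map_mul, map_inv, show π (w : G) = π u from (congrArg Subtype.val huw).symm,
              inv_mul_cancel]
          exact inv_mul_eq_one.1 (hinj _ (mul_mem (inv_mem u.2) w.2) h1)),
        fun ⟨x, u, hu, hx⟩ => ⟨⟨u, hu⟩, Subtype.ext hx⟩⟩)).symm
  refine ⟨?_, fun x hx hx1 => ?_⟩
  · rw [hcard]
    exact D.character_one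
  · rw [← hg, ← SetLike.mem_coe, Sylow.coe_smul] at hx
    obtain ⟨x', hx', rfl⟩ := Set.mem_smul_set.1 hx
    have hx'' : x' ∈ D.U.map π := heq ▸ hx'
    obtain ⟨u, hu, rfl⟩ := hx''
    have hu1 : u ≠ 1 := fun h => hx1 (by simp [h])
    rw [MulAut.smul_def, MulAut.conj_apply, hcls]
    show D.rep.character u = 0
    rw [D.character_of_mem hu, if_neg hu1]

end Datum

end Cfsg.Agent.Lib.SteinbergChar
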