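import Cfsg.Agent.Lib.SteinbergChar.Coords
import Cfsg.Agent.Lib.SteinbergChar.Abstract

/-!
Chambers of a polar space (complete flags of totally singular subspaces), panels, the apartment of a
frame with its alternating function, and the ascent property.
-/

set_option autoImplicit false
set_option linter.style.haveILetI false

namespace Cfsg.Agent.Lib.SteinbergChar

open Module
open Cfsg.Agent.Lib.Forms

variable {F V : Type*} [Field F] [AddCommGroup V] [Module F V] {σ : F →+* F}

/-- A complete flag of totally singular subspaces up to dimension `m`. -/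
structure Ch (P : FormPair σ V) (m : ℕ) where
  /-- the members -/
  sp : ℕ → Submodule F V
  dim : ∀ i ≤ m, finrank F (sp i) = i
  stop : ∀ i, m ≤ i → sp i = sp m
  mono : Monotone sp
  ts : IsTS P (sp m)

variable {P : FormPair σ V} {m : ℕ}

theorem Ch.ext' {D D' : Ch P m} (h : ∀ i ≤ m, D.sp i = D'.sp i) : D = D' := by
  have h' : D.sp = D'.sp := funext fun i => by
    rcases le_or_gt i m with hi | hi
    · exact h i hi
    · rw [D.stop i hi.le, D'.stop i hi.le]; exact h m le_rfl
  cases D; cases D'; cases h'; rfl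

theorem Ch.ts_at (D : Ch P m) (i : ℕ) : IsTS P (D.sp i) := by
  have hle : D.sp i ≤ D.sp m := by
    rcases le_or_gt i m with hi | hi
    · exact D.mono hi
    · exact (D.stop i hi.le).le
  exact fun x hx => ⟨(D.ts x (hle hx)).1, fun y hy => (D.ts x (hle hx)).2 y (hle hy)⟩

theorem Ch.sp_zero [FiniteDimensional F V] (D : Ch P m) : D.sp 0 = ⊥ :=
  Submodule.finrank_eq_zero.1 (D.dim 0 (Nat.zero_le _))

/-- The image of a chamber under an isometry. -/
def Ch.image (g : P.isom) (D : Ch P m) : Ch P m where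
  sp i := (D.sp i).map (g : V ≃ₗ[F] V).toLinearMap
  dim i hi := by rw [LinearEquiv.finrank_map_eq, D.dim i hi]
  stop i hi := by rw [D.stop i hi]
  mono i j h := Submodule.map_mono (D.mono h)
  ts := by
    rintro _ ⟨x, hx, rfl⟩
    refine ⟨(g.2.2 x).trans (D.ts x hx).1, ?_⟩
    rintro _ ⟨y, hy, rfl⟩
    exact (g.2.1 x y).trans ((D.ts x hx).2 y hy)

instance : MulAction P.isom (Ch P m) where
  smul := Ch.image
  one_smul D := Ch.ext' fun i _ => by
    show (D.sp i).map (LinearMap.id : V →ₗ[F] V) = _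
    exact Submodule.map_id _
  mul_smul g h D := Ch.ext' fun i _ => by
    show (D.sp i).map ((g : V ≃ₗ[F] V).toLinearMap ∘ₗ (h : V ≃ₗ[F] V).toLinearMap) = _
    exact Submodule.map_comp _ _ _

theorem Ch.smul_sp (g : P.isom) (D : Ch P m) (i : ℕ) :
    (g • D).sp i = (D.sp i).map (g : V ≃ₗ[F] V).toLinearMap := rfl

instance [Finite F] [FiniteDimensional F V] : Finite (Ch P m) := by
  haveI : Finite V := Module.finite_of_finite F
  haveI : Finite (Submodule F V) := Finite.of_injective _ SetLike.coe_injective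
  exact Finite.of_injective (fun D : Ch P m => fun i : Fin (m + 1) => D.sp i)
    fun D D' h => Ch.ext' fun i hi => congrFun h ⟨i, by omega⟩

/-- The panel of `D` of type `k`: the chambers differing from `D` at most in the `k`-th member. -/
noncomputable def panel [Finite F] [FiniteDimensional F V] (D : Ch P m) (k : ℕ) :
    Finset (Ch P m) :=
  (Set.toFinite {Y : Ch P m | ∀ i ≤ m, i ≠ k → Y.sp i = D.sp i}).toFinset

theorem mem_panel [Finite F] [FiniteDimensional F V] {D Y : Ch P m} {k : ℕ} :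
    Y ∈ panel D k ↔ ∀ i ≤ m, i ≠ k → Y.sp i = D.sp i := by
  simp [panel]

/-- All panels. -/
def panels (P : FormPair σ V) (m : ℕ) [Finite F] [FiniteDimensional F V] :
    Set (Finset (Ch P m)) :=
  {ℓ | ∃ D k, 1 ≤ k ∧ k ≤ m ∧ ℓ = panel D k}

theorem panels_smul [Finite F] [FiniteDimensional F V] (g : P.isom) (ℓ : Finset (Ch P m))
    (hℓ : ℓ ∈ panels P m) : ℓ.map ⟨(g • ·), MulAction.injective g⟩ ∈ panels P m := by
  obtain ⟨D, k, h1, h2, rfl⟩ := hℓ
  refine ⟨g • D, k, h1, h2, ?_⟩
  ext Y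
  rw [Finset.mem_map, mem_panel]
  constructor
  · rintro ⟨Z, hZ, rfl⟩ i hi hik
    show (g • Z).sp i = _
    rw [Ch.smul_sp, Ch.smul_sp, mem_panel.1 hZ i hi hik]
  · intro h
    refine ⟨g⁻¹ • Y, mem_panel.2 fun i hi hik => ?_, smul_inv_smul g Y⟩
    have e : (g⁻¹ • g • D).sp i = (g⁻¹ • Y).sp i := by
      rw [Ch.smul_sp g⁻¹ Y, Ch.smul_sp g⁻¹ (g • D), h i hi hik]
    rw [inv_smul_smul] at e
    exact e.symm

namespace Frame

variable (Fr : Frame P m)

/-- The vector `e i` or `f i`. -/
def gen : Fin m × Bool → V := fun t => if t.2 then Fr.f t.1 else Fr.e t.1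

theorem gen_linearIndependent : LinearIndependent F Fr.gen := by
  classical
  rw [Fintype.linearIndependent_iff]
  intro c hc t
  have e1 : (0 : V) + ∑ j, c (j, false) • Fr.e j + ∑ j, c (j, true) • Fr.f j = 0 := by
    rw [zero_add, ← hc, Fintype.sum_prod_type, ← Finset.sum_add_distrib]
    exact Finset.sum_congr rfl fun j _ => by
      rw [Fintype.sum_bool]
      simp [gen, add_comm]
  have hw : Fr.IsW (0 : V) := fun j => by simp
  rcases t with ⟨j, _ | _⟩
  · rw [← Fr.a_comb j hw (fun j => c (j, false)) (fun j => c (j, true)), e1, map_zero]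
  · rw [← Fr.b_comb j hw (fun j => c (j, false)) (fun j => c (j, true)), e1, map_zero]

/-- A signed permutation: a permutation of the pairs and a choice in each pair. -/
abbrev SPerm (m : ℕ) := Equiv.Perm (Fin m) × (Fin m → Bool)

/-- The `i`-th index of the chamber of a signed permutation. -/
def idx (w : SPerm m) (j : Fin m) : Fin m × Bool := (w.1 j, w.2 j)

/-- The set of indices of the first `i` vectors. -/
def idxSet (w : SPerm m) (i : ℕ) : Set (Fin m × Bool) := idx w '' {j | (j : ℕ) < i}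

theorem idx_injective (w : SPerm m) : Function.Injective (idx w) := fun _ _ h =>
  w.1.injective (congrArg Prod.fst h)

/-- The chambers of the apartment. -/
def ch (w : SPerm m) : Ch P m where
  sp i := Submodule.span F (Fr.gen '' idxSet w i)
  dim i hi := by
    classical
    have hli : LinearIndependent F fun j : {j : Fin m // (j : ℕ) < i} => Fr.gen (idx w j) :=
      Fr.gen_linearIndependent.comp (fun j : {j : Fin m // (j : ℕ) < i} => idx w j)
        ((idx_injective w).comp Subtype.val_injective)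
    have e : Fr.gen '' idxSet w i =
        Set.range fun j : {j : Fin m // (j : ℕ) < i} => Fr.gen (idx w j) := by
      ext x
      simp [idxSet]
    rw [e, finrank_span_eq_card hli, Fintype.card_subtype, Fin.card_filter_val_lt]
    omega
  stop i hi := by
    have : idxSet w i = idxSet w m := by
      ext t
      constructor <;> rintro ⟨j, hj, rfl⟩
      · exact ⟨j, j.2, rfl⟩
      · exact ⟨j, lt_of_lt_of_le j.2 hi, rfl⟩
    rw [this]
  mono i k h := Submodule.span_mono (Set.image_mono (Set.image_mono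
    fun j (hj : (j : ℕ) < i) => lt_of_lt_of_le hj h))
  ts := by
    intro x hx
    obtain ⟨c, rfl⟩ : ∃ c : Fin m → F, x = ∑ j, c j • Fr.gen (idx w j) := by
      have e : Fr.gen '' idxSet w m = Set.range fun j => Fr.gen (idx w j) := by
        ext z
        simp [idxSet]
      rw [e] at hx
      obtain ⟨c, hc⟩ := (Submodule.mem_span_range_iff_exists_fun F).1 hx
      exact ⟨c, hc.symm⟩
    have hB : ∀ j k, P.B (Fr.gen (idx w j)) (Fr.gen (idx w k)) = 0 := by
      intro j k
      by_cases h : w.2 j = w.2 k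
      · cases hk : w.2 k <;> simp [gen, idx, h, hk, Fr.rel.Bee, Fr.rel.Bff]
      · have hjk : w.1 j ≠ w.1 k := fun e => h (by rw [w.1.injective e])
        have hkj : w.1 k ≠ w.1 j := fun e => hjk e.symm
        cases hk : w.2 k <;> cases hj : w.2 j <;>
          simp_all [gen, idx, Fr.rel.Bef, Fr.rel.Bfe]
    have hB' : ∀ c d : Fin m → F, P.B (∑ j, c j • Fr.gen (idx w j))
        (∑ j, d j • Fr.gen (idx w j)) = 0 := by
      intro c d
      rw [B_sum_right]
      exact Finset.sum_eq_zero fun j _ => by rw [map_sum P.B, LinearMap.sum_apply]; simp [hB]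
    refine ⟨?_, fun y hy => ?_⟩
    · refine (Finset.induction_on (motive := fun s => P.N (∑ j ∈ s, c j • Fr.gen (idx w j)) = 0)
        Finset.univ (by simp [N_zero]) fun i s hi ih => ?_)
      rw [Finset.sum_insert hi, N_add_eq, P.N_smul, ih, add_zero]
      · cases hs : w.2 i <;> simp [gen, idx, hs, Fr.rel.Ne, Fr.rel.Nf]
      · simp [map_sum, hB]
    · have e : Fr.gen '' idxSet w m = Set.range fun j => Fr.gen (idx w j) := by
        ext z
        simp [idxSet]
      rw [e] at hy
      obtain ⟨d, rfl⟩ := (Submodule.mem_span_range_iff_exists_fun F).1 hy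
      exact hB' c d

theorem ch_sp (w : SPerm m) (i : ℕ) : (Fr.ch w).sp i = Submodule.span F (Fr.gen '' idxSet w i) :=
  rfl

theorem gen_mem_ch {w : SPerm m} {j : Fin m} {i : ℕ} (h : (j : ℕ) < i) :
    Fr.gen (idx w j) ∈ (Fr.ch w).sp i :=
  Submodule.subset_span ⟨_, ⟨j, h, rfl⟩, rfl⟩

/-- The base chamber. -/
abbrev C0 : Ch P m := Fr.ch (1, fun _ => false)

/-- The opposite base chamber. -/
abbrev X0 : Ch P m := Fr.ch (1, fun _ => true)

theorem C0_sp (i : ℕ) : Fr.C0.sp i = Fr.C i := by
  rw [ch_sp, C, idxSet, Set.image_image]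
  rfl

theorem X0_sp (i : ℕ) : Fr.X0.sp i = Submodule.span F (Fr.f '' {j | (j : ℕ) < i}) := by
  rw [ch_sp, idxSet, Set.image_image]
  rfl

/-! ## The alternating function of the apartment -/

/-- The sign of a signed permutation. -/
def sgn (w : SPerm m) : ℂ := ((Equiv.Perm.sign w.1 : ℤ) : ℂ) * ∏ j, if w.2 j then (-1 : ℂ) else 1

theorem sgn_ne (w : SPerm m) : sgn w ≠ 0 := by
  refine mul_ne_zero ?_ (Finset.prod_ne_zero_iff.2 fun j _ => by split <;> norm_num)
  simp

open Classical in
/-- The alternating sum over the apartment. -/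
noncomputable def alt (Y : Ch P m) : ℂ := ∑ w : SPerm m, if Fr.ch w = Y then sgn w else 0

/-- The partner of a signed permutation in a panel of type `k + 1`. -/
def partner (k : Fin m) (w : SPerm m) : SPerm m :=
  if h : (k : ℕ) + 1 < m then
    (w.1 * Equiv.swap k ⟨k + 1, h⟩, w.2 ∘ Equiv.swap k ⟨k + 1, h⟩)
  else (w.1, Function.update w.2 k (!w.2 k))

theorem sgn_partner (k : Fin m) (w : SPerm m) : sgn (partner k w) = -sgn w := by
  unfold partner
  split_ifs with h
  · have hne : k ≠ ⟨k + 1, h⟩ := fun e => by simp [Fin.ext_iff] at e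
    simp only [sgn, map_mul, Equiv.Perm.sign_swap hne, Function.comp]
    rw [Equiv.prod_comp (Equiv.swap k ⟨k + 1, h⟩) (fun j => if w.2 j then (-1 : ℂ) else 1)]
    push_cast
    ring
  · simp only [sgn]
    rw [← Finset.mul_prod_erase _ _ (Finset.mem_univ k),
      ← Finset.mul_prod_erase Finset.univ (fun j => if w.2 j then (-1 : ℂ) else 1) (Finset.mem_univ k),
      Finset.prod_congr rfl (s₁ := Finset.univ.erase k)
        (g := fun j => if w.2 j then (-1 : ℂ) else 1)
        (fun j hj => by simp [Function.update_of_ne (Finset.ne_of_mem_erase hj)])]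
    simp only [Function.update_self]
    cases w.2 k <;> simp

theorem partner_partner (k : Fin m) (w : SPerm m) : partner k (partner k w) = w := by
  unfold partner
  split_ifs with h
  · refine Prod.ext ?_ ?_
    · simp [mul_assoc]
    · funext j; simp
  · simp

theorem ch_partner_sp (k : Fin m) (w : SPerm m) {i : ℕ} (hi : i ≤ m) (hik : i ≠ k + 1) :
    (Fr.ch (partner k w)).sp i = (Fr.ch w).sp i := by
  rw [ch_sp, ch_sp]
  congr 2
  rcases lt_or_ge (k : ℕ) i with hlt | hge
  · -- `i` is beyond both positions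
    have h : (k : ℕ) + 1 < m := by omega
    unfold partner
    rw [dif_pos h]
    have himg : (Equiv.swap k (⟨k + 1, h⟩ : Fin m)) '' {j : Fin m | (j : ℕ) < i} =
        {j : Fin m | (j : ℕ) < i} := by
      ext j
      rw [Equiv.image_eq_preimage_symm, Set.mem_preimage, Equiv.symm_swap]
      rcases eq_or_ne j k with rfl | hj
      · rw [Equiv.swap_apply_left]
        simp only [Set.mem_ofPred_eq]
        omega
      rcases eq_or_ne j ⟨k + 1, h⟩ with rfl | hj'
      · rw [Equiv.swap_apply_right]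
        simp only [Set.mem_ofPred_eq]
        omega
      · rw [Equiv.swap_apply_of_ne_of_ne hj hj']
    rw [idxSet, idxSet]
    conv_rhs => rw [← himg, Set.image_image]
    rfl
  · refine Set.image_congr fun j (hj : (j : ℕ) < i) => ?_
    have hjk : j ≠ k := fun e => by rw [e] at hj; omega
    unfold partner
    split_ifs with h
    · have hjk' : j ≠ ⟨k + 1, h⟩ := fun e => by rw [e] at hj; simp only at hj; omega
      simp [idx, Equiv.swap_apply_of_ne_of_ne hjk hjk']
    · simp [idx, Function.update_of_ne hjk]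

theorem alt_mem [Finite F] [FiniteDimensional F V] : Fr.alt ∈ zeroSums (panels P m) := by
  classical
  rintro ℓ ⟨D, k, hk1, hk2, rfl⟩
  simp only [alt]
  rw [Finset.sum_comm]
  simp only [Finset.sum_ite_eq]
  rw [← Finset.sum_filter]
  obtain ⟨k, rfl⟩ : ∃ k' : Fin m, k = k' + 1 := ⟨⟨k - 1, by omega⟩, by simp; omega⟩
  refine Finset.sum_involution (fun w _ => partner k w) ?_ ?_ ?_ ?_
  · exact fun w _ => by rw [sgn_partner]; ring
  · intro w _ h e
    have e' := sgn_partner k w
    rw [e] at e'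
    exact sgn_ne w (by linear_combination e' / 2)
  · intro w hw
    rw [Finset.mem_filter] at hw ⊢
    refine ⟨Finset.mem_univ _, mem_panel.2 fun i hi hik => ?_⟩
    rw [Fr.ch_partner_sp k w hi hik]
    exact mem_panel.1 hw.2 i hi hik
  · exact fun w _ => partner_partner k w

/-- Being opposite to the base chamber. -/
def Opp (Y : Ch P m) : Prop := ∀ i ≤ m, Y.sp i ⊓ perp P (Fr.C i) = ⊥

theorem X0_opp : Fr.Opp Fr.X0 := by
  intro i hi
  refine le_bot_iff.1 fun x ⟨hx, hx'⟩ => ?_
  have hxw : Fr.pr x = 0 ∧ (∀ j, Fr.a j x = 0) ∧ ∀ j : Fin m, i ≤ j → Fr.b j x = 0 := by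
    rw [SetLike.mem_coe, X0_sp] at hx
    refine Submodule.span_induction ?_ (by simp) ?_ ?_ hx
    · rintro _ ⟨k, hk, rfl⟩
      refine ⟨Fr.pr_f k, fun j => Fr.a_f j k, fun j hj => ?_⟩
      rw [b_f, if_neg]
      rintro rfl
      exact absurd (Set.mem_ofPred.1 hk) (not_lt.2 hj)
    · intro u v _ _ hu hv
      exact ⟨by rw [map_add, hu.1, hv.1, add_zero], fun j => by rw [map_add, hu.2.1, hv.2.1, add_zero],
        fun j hj => by rw [map_add, hu.2.2 j hj, hv.2.2 j hj, add_zero]⟩
    · intro c u _ hu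
      exact ⟨by rw [map_smul, hu.1, smul_zero], fun j => by rw [map_smul, hu.2.1, smul_zero],
        fun j hj => by rw [map_smul, hu.2.2 j hj, smul_zero]⟩
  rw [Submodule.mem_bot, Fr.expand x, hxw.1]
  have hb : ∀ j : Fin m, Fr.b j x = 0 := fun j => by
    rcases lt_or_ge (j : ℕ) i with h | h
    · exact Fr.mem_perp_C.1 hx' j h
    · exact hxw.2.2 j h
  simp [hxw.2.1, hb]

theorem eq_of_opp {w : SPerm m} (h : Fr.Opp (Fr.ch w)) : w = (1, fun _ => true) := by
  have key : ∀ j : Fin m, w.2 j = true ∧ (w.1 j : ℕ) ≤ j := by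
    intro j
    by_contra hc
    have hmem : Fr.gen (idx w j) ∈ perp P (Fr.C (j + 1)) := by
      refine Fr.mem_perp_C.2 fun l hl => ?_
      cases hs : w.2 j
      · simp [gen, idx, hs, b_e]
      · simp only [gen, idx, hs, if_pos, b_f]
        rw [if_neg]
        rintro rfl
        exact hc ⟨hs, by omega⟩
    have := (h (j + 1) j.2).le ⟨Fr.gen_mem_ch (Nat.lt_succ_self _), hmem⟩
    exact Fr.gen_linearIndependent.ne_zero (idx w j) ((Submodule.mem_bot F).1 this)
  refine Prod.ext (Equiv.ext fun j => ?_) (funext fun j => (key j).1)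
  induction hj : (j : ℕ) using Nat.strong_induction_on generalizing j with
  | _ k ih =>
    subst hj
    refine Fin.ext (le_antisymm (key j).2 (not_lt.1 fun hlt => ?_))
    have := ih _ hlt (w.1 j) rfl
    exact absurd (w.1.injective this) (fun e => by rw [e] at hlt; exact lt_irrefl _ hlt)

theorem alt_opp {Y : Ch P m} (hY : Fr.Opp Y) :
    (Y = Fr.X0 → Fr.alt Y ≠ 0) ∧ (Y ≠ Fr.X0 → Fr.alt Y = 0) := by
  classical
  refine ⟨fun h => ?_, fun h => Finset.sum_eq_zero fun w _ => if_neg fun e => h ?_⟩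
  · rw [alt, Finset.sum_eq_single_of_mem (1, fun _ => true) (Finset.mem_univ _), if_pos h.symm]
    · exact sgn_ne _
    · exact fun w _ hw => if_neg fun (e : Fr.ch w = Y) => hw (Fr.eq_of_opp (e.symm ▸ hY))
  · have hw : w = (1, fun _ => true) := Fr.eq_of_opp (e.symm ▸ hY)
    rw [← e, hw]

/-! ## Ascent -/

/-- The rank of a chamber. -/
noncomputable def rank (Y : Ch P m) : ℕ :=
  ∑ i ∈ Finset.range (m + 1), ∑ j ∈ Finset.range (2 * m + 2),
    (finrank F V - finrank F ↥(Y.sp i ⊓ Fr.Lv j))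

theorem rank_lt [FiniteDimensional F V] {D Y : Ch P m} {k j₀ : ℕ} (hk : k ≤ m)
    (hj₀ : j₀ < 2 * m + 2) (heq : ∀ i ≤ m, i ≠ k → Y.sp i = D.sp i)
    (hle : ∀ j, finrank F ↥(Y.sp k ⊓ Fr.Lv j) ≤ finrank F ↥(D.sp k ⊓ Fr.Lv j))
    (hlt : finrank F ↥(Y.sp k ⊓ Fr.Lv j₀) < finrank F ↥(D.sp k ⊓ Fr.Lv j₀)) :
    Fr.rank D < Fr.rank Y := by
  refine Finset.sum_lt_sum (fun i hi => Finset.sum_le_sum fun j _ => ?_)
    ⟨k, Finset.mem_range.2 (by omega), Finset.sum_lt_sum (fun j _ => ?_)
      ⟨j₀, Finset.mem_range.2 hj₀, ?_⟩⟩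
  · rcases eq_or_ne i k with rfl | hik
    · have := hle j; omega
    · rw [heq i (by rw [Finset.mem_range] at hi; omega) hik]
  · have := hle j; omega
  · have := Submodule.finrank_le (D.sp k ⊓ Fr.Lv j₀); omega

theorem exists_level [FiniteDimensional F V] (D : Ch P m) {k : ℕ} (hk1 : 1 ≤ k) (hk2 : k ≤ m) :
    ∃ j x, x ∈ D.sp k ∧ x ∈ Fr.Lv j ∧ x ∉ D.sp (k - 1) ∧
      (∀ y, y ∈ D.sp k → ∀ i < j, y ∈ Fr.Lv i → y ∈ D.sp (k - 1)) ∧ j ≤ 2 * m + 1 := by
  classical
  have hex : ∃ j, ∃ x, x ∈ D.sp k ∧ x ∈ Fr.Lv j ∧ x ∉ D.sp (k - 1) := by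
    obtain ⟨x, hx, hx'⟩ : ∃ x ∈ D.sp k, x ∉ D.sp (k - 1) := by
      by_contra h
      push Not at h
      have := Submodule.finrank_mono (show D.sp k ≤ D.sp (k - 1) from h)
      rw [D.dim k hk2, D.dim (k - 1) (by omega)] at this
      omega
    exact ⟨2 * m + 1, x, hx, by rw [Fr.Lv_top le_rfl]; trivial, hx'⟩
  obtain ⟨x, h1, h2, h3⟩ := Nat.find_spec hex
  refine ⟨Nat.find hex, x, h1, h2, h3, fun y hy i hi hyi => ?_, ?_⟩
  · by_contra hc
    exact Nat.find_min hex hi ⟨y, hy, hyi, hc⟩
  · refine Nat.find_min' hex ⟨?_, ?_⟩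
    · exact x
    · exact ⟨h1, by rw [Fr.Lv_top le_rfl]; trivial, h3⟩

theorem sup_span_eq [FiniteDimensional F V] {A B : Submodule F V} (h : A ≤ B)
    (hd : finrank F B ≤ finrank F A + 1) {x : V} (hx : x ∈ B) (hxA : x ∉ A) :
    A ⊔ Submodule.span F {x} = B := by
  refine Submodule.eq_of_le_of_finrank_le (sup_le h ((Submodule.span_singleton_le_iff_mem _ _).2 hx)) ?_
  have hlt : A < A ⊔ Submodule.span F {x} := lt_of_le_of_ne le_sup_left fun e =>
    hxA (e ▸ Submodule.mem_sup_right (Submodule.mem_span_singleton_self x))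
  have := Submodule.finrank_lt_finrank_of_lt hlt
  omega

theorem finrank_inf_le [FiniteDimensional F V] {A B L : Submodule F V} (h : A ≤ B)
    (hd : finrank F B ≤ finrank F A + 1) :
    finrank F ↥(B ⊓ L) ≤ finrank F ↥(A ⊓ L) + 1 := by
  have h1 := Submodule.finrank_sup_add_finrank_inf_eq (B ⊓ L) A
  have h2 : B ⊓ L ⊓ A = A ⊓ L := by
    rw [inf_assoc, inf_comm L A, ← inf_assoc, inf_eq_right.2 h]
  have h3 := Submodule.finrank_mono (sup_le (inf_le_left : B ⊓ L ≤ B) h)
  rw [h2] at h1
  omega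

include Fr in
/-- A totally singular subspace has dimension at most `m`. -/
theorem finrank_le_of_ts [FiniteDimensional F V] {D : Submodule F V} (hD : IsTS P D) :
    finrank F D ≤ m := by
  by_contra hlt
  push Not at hlt
  obtain ⟨v, hv⟩ := exists_linearIndependent_of_le_finrank (R := F) (M := D) (n := m + 1) hlt
  have hv' : LinearIndependent F fun i => (v i : V) := hv.map' D.subtype D.ker_subtype
  have he : LinearIndependent F Fr.e := by
    have := Fr.gen_linearIndependent.comp (fun i => (i, false)) fun i j h => congrArg Prod.fst h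
    exact this
  obtain ⟨g, hg, hgv⟩ := P.witt_family (fun i : Fin m => (v i.castSucc : V)) Fr.e
    (hv'.comp _ (Fin.castSucc_injective m)) he
    (fun i j => by rw [(hD _ (v i.castSucc).2).2 _ (v j.castSucc).2, Fr.rel.Bee])
    (fun i => by rw [(hD _ (v i.castSucc).2).1, Fr.rel.Ne])
  set x : V := g (v (Fin.last m)) with hx
  have hxC : x ∈ Fr.C m := by
    refine Fr.mem_C_of_singular (Fr.mem_perp_C.2 fun j _ => ?_) ?_
    · rw [b_apply, ← hgv j, hx, hg.1]
      exact (hD _ (v j.castSucc).2).2 _ (v _).2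
    · rw [hx, hg.2]; exact (hD _ (v _).2).1
  have hsp : (v (Fin.last m) : V) ∈
      Submodule.span F (Set.range fun i : Fin m => (v i.castSucc : V)) := by
    have e : Fr.C m = (Submodule.span F (Set.range fun i : Fin m => (v i.castSucc : V))).map
        g.toLinearMap := by
      rw [Submodule.map_span, ← Set.range_comp, C]
      congr 1
      ext z
      simp [Function.comp_def, hgv]
    rw [e] at hxC
    obtain ⟨y, hy, hye⟩ := hxC
    rwa [← g.injective hye]
  exact (linearIndependent_finSucc'.1 hv').2 hsp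

/-- Every chamber which is not opposite to the base chamber has an ascent. -/
theorem exists_ascent [Finite F] [FiniteDimensional F V] {D : Ch P m} (hD : ¬ Fr.Opp D) :
    ∃ ℓ ∈ panels P m, D ∈ ℓ ∧ ∀ Y ∈ ℓ, Y ≠ D → Fr.rank D < Fr.rank Y := by
  classical
  by_contra hno
  choose ℓ x hxD hxL hxn hmin hle using fun (k : Fin m) =>
    Fr.exists_level D (k := k + 1) (by omega) k.2
  simp only [Nat.add_sub_cancel] at hxn hmin
  have hdim : ∀ k : Fin m, finrank F (D.sp (k + 1)) = finrank F (D.sp k) + 1 := fun k => by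
    rw [D.dim _ k.2, D.dim _ (le_of_lt k.2)]
  -- ascent inside the flag
  have hA : ∀ k k' : Fin m, (k' : ℕ) = k + 1 → ℓ k' ≤ ℓ k := by
    intro k k' hkk
    by_contra hlt
    push Not at hlt
    refine hno ⟨panel D (k + 1), ⟨D, k + 1, by omega, k.2, rfl⟩, mem_panel.2 fun _ _ _ => rfl,
      fun Y hY hYD => ?_⟩
    have heq := mem_panel.1 hY
    have hk2 : k + 1 + 1 ≤ m := by omega
    have hAle : D.sp k ≤ Y.sp (k + 1) := by
      rw [← heq k (le_of_lt k.2) (by omega)]; exact Y.mono (Nat.le_succ _)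
    have hYT : Y.sp (k + 1) ≤ D.sp (k + 1 + 1) := by
      rw [← heq _ hk2 (by omega)]; exact Y.mono (Nat.le_succ _)
    have hYne : Y.sp (k + 1) ≠ D.sp (k + 1) := fun e => hYD (Ch.ext' fun i hi => by
      rcases eq_or_ne i (k + 1) with rfl | h
      · exact e
      · exact heq i hi h)
    have hxY : x k ∉ Y.sp (k + 1) := fun h => hYne (by
      rw [← sup_span_eq hAle (by rw [Y.dim _ k.2, D.dim _ (le_of_lt k.2)]) h (hxn k),
        sup_span_eq (D.mono (Nat.le_succ _)) (hdim k).le (hxD k) (hxn k)])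
    have hlow : ∀ j < ℓ k', Y.sp (k + 1) ⊓ Fr.Lv j ≤ D.sp (k + 1) ⊓ Fr.Lv j := by
      intro j hj y hy
      refine ⟨?_, hy.2⟩
      have := hmin k' y (by rw [hkk]; exact hYT hy.1) j hj hy.2
      rwa [hkk] at this
    refine Fr.rank_lt (k := k + 1) k.2 (j₀ := ℓ k) (by have := hle k; omega) heq (fun j => ?_) ?_
    · rcases lt_or_ge j (ℓ k') with hj | hj
      · exact Submodule.finrank_mono (hlow j hj)
      · have h1 : Y.sp (k + 1) ⊓ Fr.Lv j < D.sp (k + 1 + 1) ⊓ Fr.Lv j := by
          refine lt_of_le_of_ne (inf_le_inf_right _ hYT) fun e => hxY ?_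
          exact (e.symm.le ⟨D.mono (Nat.le_succ _) (hxD k),
            Fr.Lv_mono (by omega) (hxL k)⟩).1
        have h2 := Submodule.finrank_lt_finrank_of_lt h1
        have h3 := finrank_inf_le (L := Fr.Lv j) (A := D.sp (k + 1)) (B := D.sp (k + 1 + 1))
          (D.mono (Nat.le_succ _))
          (by rw [D.dim _ hk2, D.dim _ k.2])
        omega
    · refine Submodule.finrank_lt_finrank_of_lt (lt_of_le_of_ne (hlow _ hlt) fun e => hxY ?_)
      exact (e.symm.le ⟨hxD k, hxL k⟩).1
  -- ascent at the end of the flag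
  have hB : ∀ k : Fin m, (k : ℕ) + 1 = m → m < ℓ k := by
    intro k hk
    by_contra hlk
    push Not at hlk
    refine hno ⟨panel D (k + 1), ⟨D, k + 1, by omega, k.2, rfl⟩, mem_panel.2 fun _ _ _ => rfl,
      fun Y hY hYD => ?_⟩
    have heq := mem_panel.1 hY
    have hAle : D.sp k ≤ Y.sp (k + 1) := by
      rw [← heq k (le_of_lt k.2) (by omega)]; exact Y.mono (Nat.le_succ _)
    have hYne : Y.sp (k + 1) ≠ D.sp (k + 1) := fun e => hYD (Ch.ext' fun i hi => by
      rcases eq_or_ne i (k + 1) with rfl | h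
      · exact e
      · exact heq i hi h)
    have hxY : x k ∉ Y.sp (k + 1) := fun h => hYne (by
      rw [← sup_span_eq hAle (by rw [Y.dim _ k.2, D.dim _ (le_of_lt k.2)]) h (hxn k),
        sup_span_eq (D.mono (Nat.le_succ _)) (hdim k).le (hxD k) (hxn k)])
    have hxC : x k ∈ Fr.C m := Fr.C_mono hlk (Fr.Lv_of_le hlk ▸ hxL k)
    have hlow : ∀ j ≤ m, Y.sp (k + 1) ⊓ Fr.Lv j ≤ D.sp (k + 1) ⊓ Fr.Lv j := by
      rintro j hj y ⟨hyY, hyL⟩
      refine ⟨?_, hyL⟩
      have hyC : y ∈ Fr.C m := Fr.C_mono hj (Fr.Lv_of_le hj ▸ hyL)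
      by_contra hyD
      have hts : IsTS P (D.sp (k + 1) ⊔ Submodule.span F {y}) := by
        have hyB : ∀ z ∈ D.sp (k + 1), P.B z y = 0 := by
          intro z hz
          rw [← sup_span_eq (D.mono (Nat.le_succ _)) (hdim k).le (hxD k) (hxn k)] at hz
          obtain ⟨a, ha, b, hb, rfl⟩ := Submodule.mem_sup.1 hz
          obtain ⟨c, rfl⟩ := Submodule.mem_span_singleton.1 hb
          rw [map_add, LinearMap.add_apply, P.B_smul_left, (Fr.C_ts m _ hxC).2 _ hyC, mul_zero,
            (Y.ts_at (k + 1) a (hAle ha)).2 _ hyY, add_zero]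
        have hyy := Fr.C_ts m y hyC
        intro z hz
        obtain ⟨a, ha, b, hb, rfl⟩ := Submodule.mem_sup.1 hz
        obtain ⟨c, rfl⟩ := Submodule.mem_span_singleton.1 hb
        refine ⟨?_, fun z' hz' => ?_⟩
        · rw [N_add_eq, (D.ts_at (k + 1) a ha).1, P.N_smul, hyy.1, mul_zero, add_zero]
          rw [P.B_smul_right, hyB a ha, mul_zero]
        · obtain ⟨a', ha', b', hb', rfl⟩ := Submodule.mem_sup.1 hz'
          obtain ⟨c', rfl⟩ := Submodule.mem_span_singleton.1 hb'
          simp only [map_add, LinearMap.add_apply, P.B_smul_left, P.B_smul_right]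
          rw [(D.ts_at (k + 1) a ha).2 a' ha', hyB a ha, P.eq_zero_symm (hyB a' ha'),
            hyy.2 y hyC]
          simp
      have h1 := Fr.finrank_le_of_ts hts
      have h2 : D.sp (k + 1) < D.sp (k + 1) ⊔ Submodule.span F {y} :=
        lt_of_le_of_ne le_sup_left fun e =>
          hyD (e.symm ▸ Submodule.mem_sup_right (Submodule.mem_span_singleton_self y))
      have h3 := Submodule.finrank_lt_finrank_of_lt h2
      rw [D.dim _ k.2] at h3
      omega
    refine Fr.rank_lt (k := k + 1) k.2 (j₀ := ℓ k) (by omega) heq (fun j => ?_) ?_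
    · rcases le_or_gt j m with hj | hj
      · exact Submodule.finrank_mono (hlow j hj)
      · have h3 := finrank_inf_le (L := Fr.Lv j) hAle
          (by rw [Y.dim _ k.2, D.dim _ (le_of_lt k.2)])
        have h4 : D.sp k ⊓ Fr.Lv j < D.sp (k + 1) ⊓ Fr.Lv j :=
          lt_of_le_of_ne (inf_le_inf_right _ (D.mono (Nat.le_succ _))) fun e =>
            hxn k (e.symm.le ⟨hxD k, Fr.Lv_mono (by omega) (hxL k)⟩).1
        have h5 := Submodule.finrank_lt_finrank_of_lt h4
        omega
    · refine Submodule.finrank_lt_finrank_of_lt (lt_of_le_of_ne (hlow _ hlk) fun e => hxY ?_)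
      exact (e.symm.le ⟨hxD k, hxL k⟩).1
  -- the levels are above the middle and strictly decreasing
  have hhigh : ∀ d : ℕ, ∀ k : Fin m, (k : ℕ) + 1 + d = m → m < ℓ k := by
    intro d
    induction d with
    | zero => exact fun k hk => hB k hk
    | succ d ih =>
      intro k hk
      exact lt_of_lt_of_le (ih ⟨k + 1, by omega⟩ (by simp; omega)) (hA k _ rfl)
  have hmid : ∀ k : Fin m, m + 2 ≤ ℓ k := by
    intro k
    have h1 := hhigh (m - (k + 1)) k (by omega)
    by_contra h2
    have h3 : ℓ k = m + 1 := by omega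
    have hC : x k ∈ Fr.C m := by
      refine Fr.mem_C_of_singular ?_ (D.ts_at _ _ (hxD k)).1
      have := hxL k
      rwa [h3, Fr.Lv_of_lt (by omega), show 2 * m + 1 - (m + 1) = m by omega] at this
    exact hxn k (hmin k _ (hxD k) m (by omega) (by rw [Fr.Lv_of_le le_rfl]; exact hC))
  have hstrict : ∀ k k' : Fin m, (k' : ℕ) = k + 1 → ℓ k' < ℓ k := by
    intro k k' hkk
    refine lt_of_le_of_ne (hA k k' hkk) fun he => hxn k' ?_
    have hj := hmid k
    have hj' := hle k
    set i₀ : Fin m := ⟨2 * m + 1 - ℓ k, by omega⟩ with hi₀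
    have hlow : ∀ z, z ∈ Fr.Lv (ℓ k) → Fr.b i₀ z = 0 → z ∈ Fr.Lv (ℓ k - 1) := by
      intro z hz hz0
      rw [Fr.Lv_of_lt (by omega)] at hz ⊢
      refine Fr.mem_perp_C.2 fun l hl => ?_
      rcases eq_or_ne l i₀ with rfl | hli
      · exact hz0
      · refine Fr.mem_perp_C.1 hz l ?_
        have : (l : ℕ) ≠ 2 * m + 1 - ℓ k := fun e => hli (Fin.ext e)
        omega
    have hbx : Fr.b i₀ (x k) ≠ 0 := fun h0 =>
      hxn k (hmin k _ (hxD k) (ℓ k - 1) (by omega) (hlow _ (hxL k) h0))
    set c := Fr.b i₀ (x k') / Fr.b i₀ (x k)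
    have hcx : c • x k ∈ D.sp k' := by rw [hkk]; exact Submodule.smul_mem _ _ (hxD k)
    have hz : x k' - c • x k ∈ D.sp k' := by
      refine hmin k' _ (Submodule.sub_mem _ (hxD k') ?_) (ℓ k - 1) (by omega) (hlow _ ?_ ?_)
      · exact D.mono (Nat.le_succ _) hcx
      · exact Submodule.sub_mem _ (he ▸ hxL k') (Submodule.smul_mem _ _ (hxL k))
      · rw [map_sub, map_smul, smul_eq_mul, div_mul_cancel₀ _ hbx, sub_self]
    have := Submodule.add_mem _ hz hcx
    rwa [sub_add_cancel] at this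
  have hup : ∀ n : ℕ, ∀ k : Fin m, (k : ℕ) = n → ℓ k + k ≤ 2 * m + 1 := by
    intro n
    induction n with
    | zero => intro k hk; have := hle k; omega
    | succ n ih =>
      intro k hk
      have h1 := ih ⟨n, by omega⟩ rfl
      have h2 := hstrict ⟨n, by omega⟩ k hk
      simp only at h1
      omega
  have hdown : ∀ d : ℕ, ∀ k : Fin m, (k : ℕ) + 1 + d = m → 2 * m + 1 ≤ ℓ k + k := by
    intro d
    induction d with
    | zero => intro k hk; have := hmid k; omega
    | succ d ih =>
      intro k hk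
      have h1 := ih ⟨k + 1, by omega⟩ (by simp; omega)
      have h2 := hstrict k ⟨k + 1, by omega⟩ rfl
      simp only at h1
      omega
  apply hD
  intro i hi
  induction i with
  | zero => rw [D.sp_zero, bot_inf_eq]
  | succ i ih =>
    refine le_bot_iff.1 fun z ⟨hz, hz'⟩ => (ih (by omega)).le ⟨?_, perp_anti (Fr.C_mono (Nat.le_succ i)) hz'⟩
    have h1 := hup i ⟨i, by omega⟩ rfl
    have h2 := hdown (m - (i + 1)) ⟨i, by omega⟩ (by simp; omega)
    simp only at h1 h2
    refine hmin ⟨i, by omega⟩ z hz (2 * m + 1 - (i + 1)) (by omega) ?_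
    rw [Fr.Lv_of_lt (by omega), show 2 * m + 1 - (2 * m + 1 - (i + 1)) = i + 1 by omega]
    exact hz'

end Frame

end Cfsg.Agent.Lib.SteinbergChar
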