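import Cfsg.Agent.Lib.Forms.Witt

/-!
Coordinates with respect to a hyperbolic frame of a form pair, and the two flags of subspaces
attached to it.
-/

set_option autoImplicit false

namespace Cfsg.Agent.Lib.SteinbergChar

open Module
open Cfsg.Agent.Lib.Forms

variable {F V : Type*} [Field F] [AddCommGroup V] [Module F V] {σ : F →+* F}

/-- Hyperbolic pairs `(e i, f i)`, pairwise orthogonal. -/
structure Rel (P : FormPair σ V) {m : ℕ} (e f : Fin m → V) : Prop where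
  Ne : ∀ i, P.N (e i) = 0
  Nf : ∀ i, P.N (f i) = 0
  Bee : ∀ i j, P.B (e i) (e j) = 0
  Bff : ∀ i j, P.B (f i) (f j) = 0
  Bef : ∀ i j, P.B (e i) (f j) = if i = j then 1 else 0

/-- The orthogonal subspace. -/
def perp (P : FormPair σ V) (D : Submodule F V) : Submodule F V where
  carrier := {x | ∀ d ∈ D, P.B d x = 0}
  add_mem' {a b} ha hb d hd := by rw [map_add, ha d hd, hb d hd, add_zero]
  zero_mem' d _ := map_zero _
  smul_mem' c x hx d hd := by rw [map_smul, hx d hd, smul_zero]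

/-- Totally singular subspaces. -/
def IsTS (P : FormPair σ V) (D : Submodule F V) : Prop :=
  ∀ x ∈ D, P.N x = 0 ∧ ∀ y ∈ D, P.B x y = 0

/-- A frame: hyperbolic pairs whose common orthogonal is anisotropic. -/
structure Frame (P : FormPair σ V) (m : ℕ) where
  /-- the first vectors -/
  e : Fin m → V
  /-- the second vectors -/
  f : Fin m → V
  rel : Rel P e f
  aniso : ∀ w, (∀ i, P.B (e i) w = 0) → (∀ i, P.B (f i) w = 0) → P.N w = 0 → w = 0

variable {P : FormPair σ V} {m : ℕ}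

theorem N_zero (P : FormPair σ V) : P.N 0 = 0 := by
  have h := P.N_smul 0 0
  rwa [zero_smul, map_zero, zero_mul, zero_mul] at h

theorem diag_zero (P : FormPair σ V) {x : V} (h : P.N x = 0) : P.B x x = 0 := by
  have := P.diag x 0 (by rw [h, N_zero])
  simpa using this

theorem N_add_eq (P : FormPair σ V) {x y : V} (h : P.B x y = 0) : P.N (x + y) = P.N x + P.N y := by
  rw [P.N_add, h, P.ρ_zero, add_zero]

theorem mem_perp {D : Submodule F V} {x : V} : x ∈ perp P D ↔ ∀ d ∈ D, P.B d x = 0 := Iff.rfl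

theorem perp_anti {D D' : Submodule F V} (h : D ≤ D') : perp P D' ≤ perp P D :=
  fun _ hx d hd => hx d (h hd)

/-! ## Expansions -/

section Rel

variable {e f : Fin m → V} (R : Rel P e f)
include R

omit R in
theorem Rel.sum_e_B (a : Fin m → F) (y : V) :
    P.B (∑ j, a j • e j) y = ∑ j, σ (a j) * P.B (e j) y := by
  rw [map_sum, LinearMap.sum_apply]
  exact Finset.sum_congr rfl fun j _ => P.B_smul_left _ _ _

omit R in
theorem B_sum_right (x : V) (v : Fin m → V) (a : Fin m → F) :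
    P.B x (∑ j, a j • v j) = ∑ j, a j * P.B x (v j) := by
  rw [map_sum]
  exact Finset.sum_congr rfl fun j _ => P.B_smul_right _ _ _

theorem Rel.Bfe (i j : Fin m) : P.B (f j) (e i) = if i = j then P.ε else 0 := by
  rw [P.flip, R.Bef]
  split <;> simp

theorem Rel.eps_mul (i : Fin m) : P.ε * σ P.ε = 1 := by
  have h := R.Bef i i
  rw [if_pos rfl, P.flip, R.Bfe, if_pos rfl] at h
  exact h

theorem Rel.Be_comb (k : Fin m) (w : V) (hw : P.B (e k) w = 0) (a b : Fin m → F) :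
    P.B (e k) (w + ∑ j, a j • e j + ∑ j, b j • f j) = b k := by
  rw [map_add, map_add, hw, B_sum_right, B_sum_right]
  simp [R.Bee, R.Bef]

theorem Rel.Bf_comb (k : Fin m) (w : V) (hw : P.B (f k) w = 0) (a b : Fin m → F) :
    P.B (f k) (w + ∑ j, a j • e j + ∑ j, b j • f j) = P.ε * a k := by
  rw [map_add, map_add, hw, B_sum_right, B_sum_right]
  simp [R.Bff, R.Bfe, mul_comm]

theorem Rel.B_comb {w w' : V} (hw : ∀ j, P.B (e j) w = 0 ∧ P.B (f j) w = 0)
    (hw' : ∀ j, P.B (e j) w' = 0 ∧ P.B (f j) w' = 0) (a b c d : Fin m → F) :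
    P.B (w + ∑ j, a j • e j + ∑ j, b j • f j) (w' + ∑ j, c j • e j + ∑ j, d j • f j) =
      P.B w w' + ∑ j, (σ (a j) * d j + P.ε * σ (b j) * c j) := by
  rw [map_add P.B, map_add P.B, LinearMap.add_apply, LinearMap.add_apply, Rel.sum_e_B]
  have h1 : P.B w (w' + ∑ j, c j • e j + ∑ j, d j • f j) = P.B w w' := by
    rw [map_add, map_add, B_sum_right, B_sum_right]
    simp [fun j => P.eq_zero_symm (hw j).1, fun j => P.eq_zero_symm (hw j).2]
  have h3 : P.B (∑ j, b j • f j) (w' + ∑ j, c j • e j + ∑ j, d j • f j) =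
      ∑ j, P.ε * σ (b j) * c j := by
    rw [map_sum, LinearMap.sum_apply]
    refine Finset.sum_congr rfl fun j _ => ?_
    rw [P.B_smul_left, R.Bf_comb j w' (hw' j).2]
    ring
  rw [h1, h3, Finset.sum_add_distrib, Finset.sum_congr rfl fun j _ => by
    rw [R.Be_comb j w' (hw' j).1 c d]]
  ring

theorem Rel.N_sum_e (a : Fin m → F) : P.N (∑ j, a j • e j) = 0 := by
  classical
  refine (Finset.induction_on (motive := fun s => P.N (∑ j ∈ s, a j • e j) = 0) Finset.univ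
    (by simp [N_zero]) fun i s hi ih => ?_)
  rw [Finset.sum_insert hi, N_add_eq, P.N_smul, R.Ne, mul_zero, ih, add_zero]
  simp [map_sum, R.Bee]

theorem Rel.N_sum_f (a : Fin m → F) : P.N (∑ j, a j • f j) = 0 := by
  classical
  refine (Finset.induction_on (motive := fun s => P.N (∑ j ∈ s, a j • f j) = 0) Finset.univ
    (by simp [N_zero]) fun i s hi ih => ?_)
  rw [Finset.sum_insert hi, N_add_eq, P.N_smul, R.Nf, mul_zero, ih, add_zero]
  simp [map_sum, R.Bff]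

theorem Rel.N_comb {w : V} (hw : ∀ j, P.B (e j) w = 0 ∧ P.B (f j) w = 0) (a b : Fin m → F) :
    P.N (w + ∑ j, a j • e j + ∑ j, b j • f j) = P.N w + P.ρ (∑ j, σ (a j) * b j) := by
  have h1 : P.B w (∑ j, a j • e j + ∑ j, b j • f j) = 0 := by
    rw [map_add, B_sum_right, B_sum_right]
    simp [fun j => P.eq_zero_symm (hw j).1, fun j => P.eq_zero_symm (hw j).2]
  have h2 : P.B (∑ j, a j • e j) (∑ j, b j • f j) = ∑ j, σ (a j) * b j := by
    rw [Rel.sum_e_B]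
    refine Finset.sum_congr rfl fun j _ => ?_
    rw [B_sum_right]
    simp [R.Bef]
  rw [add_assoc, N_add_eq P h1, P.N_add, R.N_sum_e, R.N_sum_f, h2]
  ring

end Rel

/-! ## Coordinates -/

namespace Frame

variable (Fr : Frame P m)

/-- Orthogonal to the whole frame. -/
def IsW (w : V) : Prop := ∀ j, P.B (Fr.e j) w = 0 ∧ P.B (Fr.f j) w = 0

theorem aniso' {w : V} (hw : Fr.IsW w) (h : P.N w = 0) : w = 0 :=
  Fr.aniso w (fun i => (hw i).1) (fun i => (hw i).2) h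

include Fr in
theorem eps_ne (i : Fin m) : P.ε ≠ 0 := by
  intro h
  have := Fr.rel.eps_mul i
  rw [h, zero_mul] at this
  exact zero_ne_one this

/-- Coefficient of `e j`. -/
noncomputable def a (j : Fin m) : V →ₗ[F] F := P.ε⁻¹ • P.B (Fr.f j)

/-- Coefficient of `f j`. -/
def b (j : Fin m) : V →ₗ[F] F := P.B (Fr.e j)

theorem a_apply (j : Fin m) (x : V) : Fr.a j x = P.ε⁻¹ * P.B (Fr.f j) x := rfl

theorem b_apply (j : Fin m) (x : V) : Fr.b j x = P.B (Fr.e j) x := rfl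

/-- The anisotropic component. -/
noncomputable def pr : V →ₗ[F] V :=
  LinearMap.id - (∑ j, (Fr.a j).smulRight (Fr.e j)) - (∑ j, (Fr.b j).smulRight (Fr.f j))

theorem pr_apply (x : V) :
    Fr.pr x = x - ∑ j, Fr.a j x • Fr.e j - ∑ j, Fr.b j x • Fr.f j := by
  simp [pr, LinearMap.sum_apply]

theorem expand (x : V) :
    x = Fr.pr x + ∑ j, Fr.a j x • Fr.e j + ∑ j, Fr.b j x • Fr.f j := by
  rw [pr_apply]; abel

theorem pr_isW (x : V) : Fr.IsW (Fr.pr x) := by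
  intro k
  constructor
  · rw [pr_apply, map_sub, map_sub, B_sum_right, B_sum_right]
    simp [Fr.rel.Bee, Fr.rel.Bef, b_apply]
  · rw [pr_apply, map_sub, map_sub, B_sum_right, B_sum_right]
    simp [Fr.rel.Bff, Fr.rel.Bfe, a_apply]
    have := Fr.eps_ne k
    field_simp
    ring

theorem b_comb (k : Fin m) {w : V} (hw : Fr.IsW w) (c d : Fin m → F) :
    Fr.b k (w + ∑ j, c j • Fr.e j + ∑ j, d j • Fr.f j) = d k :=
  Fr.rel.Be_comb k w (hw k).1 c d

theorem a_comb (k : Fin m) {w : V} (hw : Fr.IsW w) (c d : Fin m → F) :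
    Fr.a k (w + ∑ j, c j • Fr.e j + ∑ j, d j • Fr.f j) = c k := by
  rw [a_apply, Fr.rel.Bf_comb k w (hw k).2 c d, inv_mul_cancel_left₀ (Fr.eps_ne k)]

theorem a_e (k j : Fin m) : Fr.a k (Fr.e j) = if j = k then 1 else 0 := by
  rw [a_apply, Fr.rel.Bfe]
  split
  · exact inv_mul_cancel₀ (Fr.eps_ne k)
  · exact mul_zero _

theorem a_f (k j : Fin m) : Fr.a k (Fr.f j) = 0 := by rw [a_apply, Fr.rel.Bff, mul_zero]

theorem b_e (k j : Fin m) : Fr.b k (Fr.e j) = 0 := Fr.rel.Bee k j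

theorem b_f (k j : Fin m) : Fr.b k (Fr.f j) = if k = j then 1 else 0 := Fr.rel.Bef k j

theorem a_isW (k : Fin m) {w : V} (hw : Fr.IsW w) : Fr.a k w = 0 := by
  rw [a_apply, (hw k).2, mul_zero]

theorem b_isW (k : Fin m) {w : V} (hw : Fr.IsW w) : Fr.b k w = 0 := (hw k).1

theorem pr_of_isW {w : V} (hw : Fr.IsW w) : Fr.pr w = w := by
  rw [pr_apply]
  simp [Fr.a_isW _ hw, Fr.b_isW _ hw]

theorem pr_e (j : Fin m) : Fr.pr (Fr.e j) = 0 := by
  rw [pr_apply]; simp [a_e, b_e]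

theorem pr_f (j : Fin m) : Fr.pr (Fr.f j) = 0 := by
  rw [pr_apply]; simp [a_f, b_f]

/-! ## The two flags -/

/-- The span of the first `i` vectors `e`. -/
def C (i : ℕ) : Submodule F V := Submodule.span F (Fr.e '' {j | (j : ℕ) < i})

theorem e_mem_C {j : Fin m} {i : ℕ} (h : (j : ℕ) < i) : Fr.e j ∈ Fr.C i :=
  Submodule.subset_span ⟨j, h, rfl⟩

theorem C_mono {i k : ℕ} (h : i ≤ k) : Fr.C i ≤ Fr.C k :=
  Submodule.span_mono (Set.image_mono fun _ (hj : _ < i) => lt_of_lt_of_le hj h)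

theorem C_zero : Fr.C 0 = ⊥ := by
  simp [C]

theorem C_of_le {i : ℕ} (h : m ≤ i) : Fr.C i = Fr.C m :=
  le_antisymm (Submodule.span_mono (Set.image_mono fun j _ => j.2)) (Fr.C_mono h)

theorem mem_C_iff {i : ℕ} {x : V} :
    x ∈ Fr.C i ↔ Fr.pr x = 0 ∧ (∀ j, Fr.b j x = 0) ∧ ∀ j : Fin m, i ≤ j → Fr.a j x = 0 := by
  constructor
  · intro hx
    refine Submodule.span_induction ?_ ?_ ?_ ?_ hx
    · rintro _ ⟨k, hk, rfl⟩
      refine ⟨Fr.pr_e k, fun j => Fr.b_e j k, fun j hj => ?_⟩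
      rw [a_e, if_neg]
      rintro rfl
      exact absurd (Set.mem_ofPred.1 hk) (not_lt.2 hj)
    · simp
    · intro u v _ _ hu hv
      exact ⟨by rw [map_add, hu.1, hv.1, add_zero], fun j => by rw [map_add, hu.2.1, hv.2.1, add_zero],
        fun j hj => by rw [map_add, hu.2.2 j hj, hv.2.2 j hj, add_zero]⟩
    · intro c u _ hu
      exact ⟨by rw [map_smul, hu.1, smul_zero], fun j => by rw [map_smul, hu.2.1, smul_zero],
        fun j hj => by rw [map_smul, hu.2.2 j hj, smul_zero]⟩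
  · rintro ⟨h1, h2, h3⟩
    rw [Fr.expand x, h1, zero_add]
    refine add_mem (sum_mem fun j _ => ?_) (sum_mem fun j _ => ?_)
    · by_cases hj : i ≤ j
      · rw [h3 j hj, zero_smul]; exact zero_mem _
      · exact Submodule.smul_mem _ _ (Fr.e_mem_C (by omega))
    · rw [h2 j, zero_smul]; exact zero_mem _

theorem mem_perp_C {i : ℕ} {x : V} :
    x ∈ perp P (Fr.C i) ↔ ∀ j : Fin m, (j : ℕ) < i → Fr.b j x = 0 := by
  constructor
  · exact fun hx j hj => hx _ (Fr.e_mem_C hj)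
  · intro h d hd
    refine Submodule.span_induction ?_ (by simp) ?_ ?_ hd
    · rintro _ ⟨j, hj, rfl⟩
      exact h j hj
    · intro u v _ _ hu hv
      rw [map_add, LinearMap.add_apply, hu, hv, add_zero]
    · intro c u _ hu
      rw [P.B_smul_left, hu, mul_zero]

theorem C_ts (i : ℕ) : IsTS P (Fr.C i) := by
  intro x hx
  rw [mem_C_iff] at hx
  refine ⟨?_, fun y hy => ?_⟩
  · rw [Fr.expand x, Fr.rel.N_comb (Fr.pr_isW x), hx.1, N_zero]
    simp [hx.2.1, P.ρ_zero]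
  · rw [mem_C_iff] at hy
    rw [Fr.expand x, Fr.expand y, Fr.rel.B_comb (Fr.pr_isW x) (Fr.pr_isW y), hx.1]
    simp [hx.2.1, hy.2.1]

theorem C_le_perp (i k : ℕ) : Fr.C i ≤ perp P (Fr.C k) := fun _ hx =>
  Fr.mem_perp_C.2 fun j _ => (Fr.mem_C_iff.1 hx).2.1 j

/-- A singular vector orthogonal to `C m` lies in it. -/
theorem mem_C_of_singular {x : V} (hx : x ∈ perp P (Fr.C m)) (hN : P.N x = 0) : x ∈ Fr.C m := by
  have hb : ∀ j, Fr.b j x = 0 := fun j => Fr.mem_perp_C.1 hx j j.2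
  refine Fr.mem_C_iff.2 ⟨Fr.aniso' (Fr.pr_isW x) ?_, hb, fun j hj => absurd j.2 (not_lt.2 hj)⟩
  rw [Fr.expand x, Fr.rel.N_comb (Fr.pr_isW x)] at hN
  simpa [hb, P.ρ_zero] using hN

/-- The complete sequence of levels. -/
def Lv (k : ℕ) : Submodule F V := if k ≤ m then Fr.C k else perp P (Fr.C (2 * m + 1 - k))

theorem Lv_of_le {k : ℕ} (h : k ≤ m) : Fr.Lv k = Fr.C k := if_pos h

theorem Lv_of_lt {k : ℕ} (h : m < k) : Fr.Lv k = perp P (Fr.C (2 * m + 1 - k)) :=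
  if_neg (not_le.2 h)

theorem Lv_mono {k l : ℕ} (h : k ≤ l) : Fr.Lv k ≤ Fr.Lv l := by
  rcases le_or_gt l m with hl | hl
  · rw [Fr.Lv_of_le hl, Fr.Lv_of_le (h.trans hl)]; exact Fr.C_mono h
  rcases le_or_gt k m with hk | hk
  · rw [Fr.Lv_of_lt hl, Fr.Lv_of_le hk]; exact Fr.C_le_perp _ _
  · rw [Fr.Lv_of_lt hl, Fr.Lv_of_lt hk]; exact perp_anti (Fr.C_mono (by omega))

theorem Lv_top {k : ℕ} (h : 2 * m + 1 ≤ k) : Fr.Lv k = ⊤ := by
  rw [Fr.Lv_of_lt (by omega), show 2 * m + 1 - k = 0 by omega, C_zero, eq_top_iff]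
  intro x _ d hd
  rw [(Submodule.mem_bot F).1 hd, map_zero, LinearMap.zero_apply]

/-- The linear map attached to a second system of hyperbolic pairs and a map on the anisotropic part. -/
noncomputable def ext (e' f' : Fin m → V) (θ : V →ₗ[F] V) : V →ₗ[F] V :=
  θ ∘ₗ Fr.pr + (∑ j, (Fr.a j).smulRight (e' j)) + (∑ j, (Fr.b j).smulRight (f' j))

theorem ext_apply (e' f' : Fin m → V) (θ : V →ₗ[F] V) (x : V) :
    Fr.ext e' f' θ x = θ (Fr.pr x) + ∑ j, Fr.a j x • e' j + ∑ j, Fr.b j x • f' j := by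
  simp [ext, LinearMap.sum_apply]

theorem exists_ext [FiniteDimensional F V] {e' f' : Fin m → V} (R : Rel P e' f') (θ : V →ₗ[F] V)
    (hθ : ∀ w, Fr.IsW w → ∀ j, P.B (e' j) (θ w) = 0 ∧ P.B (f' j) (θ w) = 0)
    (hθB : ∀ w w', Fr.IsW w → Fr.IsW w' → P.B (θ w) (θ w') = P.B w w')
    (hθN : ∀ w, Fr.IsW w → P.N (θ w) = P.N w) :
    ∃ g : P.isom, (∀ x, (g : V ≃ₗ[F] V) x = Fr.ext e' f' θ x) ∧
      (∀ j, (g : V ≃ₗ[F] V) (Fr.e j) = e' j) ∧ (∀ j, (g : V ≃ₗ[F] V) (Fr.f j) = f' j) ∧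
      ∀ w, Fr.IsW w → (g : V ≃ₗ[F] V) w = θ w := by
  have hB : ∀ x y, P.B (Fr.ext e' f' θ x) (Fr.ext e' f' θ y) = P.B x y := by
    intro x y
    conv_rhs => rw [Fr.expand x, Fr.expand y]
    rw [ext_apply, ext_apply, R.B_comb (hθ _ (Fr.pr_isW x)) (hθ _ (Fr.pr_isW y)),
      Fr.rel.B_comb (Fr.pr_isW x) (Fr.pr_isW y), hθB _ _ (Fr.pr_isW x) (Fr.pr_isW y)]
  have hN : ∀ x, P.N (Fr.ext e' f' θ x) = P.N x := by
    intro x
    conv_rhs => rw [Fr.expand x]
    rw [ext_apply, R.N_comb (hθ _ (Fr.pr_isW x)), Fr.rel.N_comb (Fr.pr_isW x),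
      hθN _ (Fr.pr_isW x)]
  obtain ⟨g, hg, hgx⟩ := P.exists_isom_of_map _ hB hN
  refine ⟨⟨g, hg⟩, hgx, fun j => ?_, fun j => ?_, fun w hw => ?_⟩ <;>
    (show g _ = _; rw [hgx, ext_apply])
  · simp [pr_e, a_e, b_e]
  · simp [pr_f, a_f, b_f]
  · simp [Fr.pr_of_isW hw, Fr.a_isW _ hw, Fr.b_isW _ hw]

end Frame

end Cfsg.Agent.Lib.SteinbergChar
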