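import Cfsg.Agent.Lib.SteinbergChar.Main

/-!
The action of the stabiliser of the base chamber on the anisotropic part.
-/

set_option autoImplicit false

namespace Cfsg.Agent.Lib.SteinbergChar.Frame

open Module
open Cfsg.Agent.Lib.Forms

variable {F V : Type*} [Field F] [AddCommGroup V] [Module F V] {σ : F →+* F}
  {P : FormPair σ V} {m : ℕ} (Fr : Frame P m)

theorem fix_mem_C {g : P.isom} (hfix : g • Fr.C0 = Fr.C0) (i : ℕ) {x : V} (hx : x ∈ Fr.C i) :
    (g : V ≃ₗ[F] V) x ∈ Fr.C i := by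
  have h1 := congrArg (fun D : Ch P m => D.sp i) hfix
  simp only [Ch.smul_sp, C0_sp] at h1
  exact h1.le (Submodule.mem_map_of_mem hx)

theorem fix_mem_perp {g : P.isom} (hfix : g • Fr.C0 = Fr.C0) (i : ℕ) {x : V}
    (hx : x ∈ perp P (Fr.C i)) : (g : V ≃ₗ[F] V) x ∈ perp P (Fr.C i) := by
  intro d hd
  have h1 := congrArg (fun D : Ch P m => D.sp i) hfix
  simp only [Ch.smul_sp, C0_sp] at h1
  rw [← h1] at hd
  obtain ⟨d', hd', rfl⟩ := hd
  exact (g.2.1 d' x).trans (hx d' hd')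

theorem isW_mem_perp {w : V} (hw : Fr.IsW w) : w ∈ perp P (Fr.C m) :=
  Fr.mem_perp_C.2 fun l _ => Fr.b_isW l hw

/-- Modulo `C m`, an element fixing the base chamber acts through its anisotropic component. -/
theorem pr_fix {g : P.isom} (hfix : g • Fr.C0 = Fr.C0) {y : V} (hy : y ∈ perp P (Fr.C m)) :
    Fr.pr ((g : V ≃ₗ[F] V) y) = Fr.pr ((g : V ≃ₗ[F] V) (Fr.pr y)) := by
  have h : y - Fr.pr y ∈ Fr.C m := by
    refine Fr.mem_C_iff.2 ⟨?_, fun j => ?_, fun j hj => absurd j.2 (not_lt.2 hj)⟩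
    · rw [map_sub, Fr.pr_of_isW (Fr.pr_isW y), sub_self]
    · rw [map_sub, Fr.mem_perp_C.1 hy j j.2, Fr.b_isW j (Fr.pr_isW y), sub_self]
  have h1 := (Fr.mem_C_iff.1 (Fr.fix_mem_C hfix m h)).1
  rwa [map_sub, map_sub, sub_eq_zero] at h1

theorem pow_fix {g : P.isom} (hfix : g • Fr.C0 = Fr.C0) (n : ℕ) : g ^ n • Fr.C0 = Fr.C0 := by
  induction n with
  | zero => rw [pow_zero, one_smul]
  | succ n ih => rw [pow_succ, mul_smul, hfix, ih]

/-- The scalar on a one-dimensional anisotropic part is one for elements of `p`-power order. -/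
theorem mid_of_line (p : ℕ) [Fact p.Prime] [CharP F p] {w₁ : V} (hw₁ : Fr.IsW w₁)
    (hline : ∀ w, Fr.IsW w → ∃ c : F, w = c • w₁) {g : P.isom} (hord : ∃ k, orderOf g = p ^ k)
    (hfix : g • Fr.C0 = Fr.C0) {w : V} (hw : Fr.IsW w) : Fr.pr ((g : V ≃ₗ[F] V) w) = w := by
  obtain ⟨k, hk⟩ := hord
  obtain ⟨c, hc⟩ := hline _ (Fr.pr_isW ((g : V ≃ₗ[F] V) w₁))
  have hiter : ∀ n : ℕ, Fr.pr (((g ^ n : P.isom) : V ≃ₗ[F] V) w₁) = c ^ n • w₁ := by
    intro n
    induction n with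
    | zero => rw [pow_zero, pow_zero, one_smul]; exact Fr.pr_of_isW hw₁
    | succ n ih =>
      rw [pow_succ' g]
      show Fr.pr ((g : V ≃ₗ[F] V) (((g ^ n : P.isom) : V ≃ₗ[F] V) w₁)) = _
      rw [Fr.pr_fix hfix (Fr.fix_mem_perp (Fr.pow_fix hfix n) m (Fr.isW_mem_perp hw₁)), ih,
        map_smul, map_smul, hc, smul_smul, ← pow_succ]
  obtain ⟨a, rfl⟩ := hline w hw
  rcases eq_or_ne w₁ 0 with h0 | h0
  · rw [h0, smul_zero, map_zero, map_zero]
  have h1 : c ^ p ^ k = 1 := by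
    have h2 := hiter (p ^ k)
    rw [← hk, pow_orderOf_eq_one, hk] at h2
    have h3 : w₁ = c ^ p ^ k • w₁ := (Fr.pr_of_isW hw₁).symm.trans h2
    exact (smul_left_injective F h0 (show (fun x : F => x • w₁) 1 = (fun x : F => x • w₁) _ by
      simpa using h3)).symm
  have h2 : (c - 1) ^ p ^ k = 0 := by rw [sub_pow_char_pow, h1, one_pow, sub_self]
  rw [map_smul, map_smul, hc, sub_eq_zero.1 ((pow_eq_zero_iff
    (pow_ne_zero _ (Fact.out : p.Prime).ne_zero)).1 h2), one_smul]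

end Cfsg.Agent.Lib.SteinbergChar.Frame
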