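import Cfsg.Agent.Lib.SteinbergChar.Main
import Cfsg.Agent.Lib.Forms.Quad

/-!
Orthogonal polar spaces: the form pair, frames from an isometry with `qPlus m ⊥ anisotropic`, and the
images in the abelianised orthogonal group.
-/

set_option autoImplicit false
set_option linter.style.haveILetI false

namespace Cfsg.Agent.Lib.SteinbergChar.Orth

open Module QuadraticMap
open Cfsg.Agent.Lib.Forms

variable {F V : Type*} [Field F] [AddCommGroup V] [Module F V] {Q : QuadraticForm F V}

/-- The form pair of a quadratic form. -/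
noncomputable abbrev pair (hQ : Nondeg Q) : FormPair (RingHom.id F) V := ofQuadratic Q hQ.polarBilin

theorem pair_B (hQ : Nondeg Q) (x y : V) : (pair hQ).B x y = polar Q x y := rfl

theorem pair_N (hQ : Nondeg Q) (x : V) : (pair hQ).N x = Q x := rfl

theorem pair_ε (hQ : Nondeg Q) : (pair hQ).ε = 1 := rfl

/-- The orthogonal group as the isometry group of the pair. -/
noncomputable def equiv (hQ : Nondeg Q) : orth Q ≃* (pair hQ).isom where
  toFun g := ⟨g.1, fun x y => orth_polar g.2 x y, g.2⟩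
  invFun g := ⟨g.1, g.2.2⟩
  left_inv _ := rfl
  right_inv _ := rfl
  map_mul' _ _ := rfl

variable (Q) in
/-- The commutator subgroup inside the isometry group of the pair. -/
noncomputable def om (hQ : Nondeg Q) : Subgroup (pair hQ).isom :=
  (commutator (orth Q)).map (equiv hQ).toMonoidHom

theorem mem_om {hQ : Nondeg Q} {g : (pair hQ).isom} :
    g ∈ om Q hQ ↔ (equiv hQ).symm g ∈ commutator (orth Q) := Subgroup.mem_map_equiv

theorem mem_om_iff {hQ : Nondeg Q} {g : (pair hQ).isom} :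
    g ∈ om Q hQ ↔ Abelianization.of ((equiv hQ).symm g) = 1 := by
  rw [mem_om]
  exact (QuotientGroup.eq_one_iff _).symm

theorem exists_frame {V' : Type*} [AddCommGroup V'] [Module F V'] {m : ℕ} (hQ : Nondeg Q)
    (φ : V ≃ₗ[F] (Fin m ⊕ Fin m → F) × V') (R : QuadraticForm F V') (hR : ∀ z, R z = 0 → z = 0)
    (hφ : ∀ x, Q x = qPlus m (φ x).1 + R (φ x).2) :
    ∃ Fr : Frame (pair hQ) m, ∀ w, Fr.IsW w ↔ (φ w).1 = 0 := by
  have hpol : ∀ x y, polar Q x y = polar (qPlus m) (φ x).1 (φ y).1 + polar R (φ x).2 (φ y).2 := by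
    intro x y
    simp only [polar, hφ, map_add, Prod.fst_add, Prod.snd_add]
    ring
  let e : Fin m → V := fun i => φ.symm (Pi.single (Sum.inl i) 1, 0)
  let f : Fin m → V := fun i => φ.symm (Pi.single (Sum.inr i) 1, 0)
  have he : ∀ i y, polar Q (e i) y = (φ y).1 (Sum.inr i) := fun i y => by
    rw [hpol]
    simp [e, qPlus_polar, Pi.single_apply, Finset.sum_add_distrib]
  have hf : ∀ i y, polar Q (f i) y = (φ y).1 (Sum.inl i) := fun i y => by
    rw [hpol]
    simp [f, qPlus_polar, Pi.single_apply, Finset.sum_add_distrib]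
  have hW : ∀ w, ((∀ i, polar Q (e i) w = 0) ∧ ∀ i, polar Q (f i) w = 0) ↔ (φ w).1 = 0 := by
    intro w
    refine ⟨fun h => funext fun j => ?_, fun h => ⟨fun i => by rw [he, h]; rfl,
      fun i => by rw [hf, h]; rfl⟩⟩
    cases j with
    | inl i => rw [← hf]; exact h.2 i
    | inr i => rw [← he]; exact h.1 i
  refine ⟨{ e := e, f := f, rel := ?_, aniso := ?_ }, fun w => ?_⟩
  · refine ⟨fun i => ?_, fun i => ?_, fun i j => ?_, fun i j => ?_, fun i j => ?_⟩
    · rw [pair_N, hφ]; simp [e, qPlus_apply]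
    · rw [pair_N, hφ]; simp [f, qPlus_apply]
    · rw [pair_B, he]; simp [e]
    · rw [pair_B, hf]; simp [f]
    · rw [pair_B, he]; simp [f, Pi.single_apply]
  · intro w h1 h2 hN
    have h0 := (hW w).1 ⟨h1, h2⟩
    rw [pair_N, hφ, h0, QuadraticMap.map_zero, zero_add] at hN
    exact φ.injective (by rw [map_zero]; exact Prod.ext h0 (hR _ hN))
  · rw [← hW w]
    exact ⟨fun h => ⟨fun i => (h i).1, fun i => (h i).2⟩, fun h i => ⟨h.1 i, h.2 i⟩⟩

variable [FiniteDimensional F V]

/-- Reflections of equal norm have one image. -/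
theorem of_orefl_eq (hQ : Nondeg Q) {v w : V} (hv : Q v ≠ 0) (h : Q v = Q w) :
    Abelianization.of (orefl Q v) = Abelianization.of (orefl Q w) := by
  obtain ⟨g, hg, hgv⟩ := witt_one hQ (fun h0 => hv (by rw [h0, QuadraticMap.map_zero]))
    (fun h0 => hv (by rw [h, h0, QuadraticMap.map_zero])) h
  have e : (⟨g, hg⟩ : orth Q) * orefl Q v * (⟨g, hg⟩ : orth Q)⁻¹ = orefl Q w := by
    refine Subtype.ext ?_
    show g * refl Q v * g⁻¹ = refl Q w
    rw [refl_conj hg, hgv]
  rw [← e, map_mul, map_mul, map_inv, mul_comm (Abelianization.of _), mul_inv_cancel_right]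

omit [FiniteDimensional F V] in
theorem of_orefl_sq (v : V) :
    Abelianization.of (orefl Q v) * Abelianization.of (orefl Q v) = 1 := by
  rw [← map_mul, show orefl Q v * orefl Q v = 1 from Subtype.ext (refl_mul_self Q v), map_one]

/-- Exchanging the first `n` pairs. -/
theorem exists_partial_swap (hQ : Nondeg Q) {m : ℕ} (Fr : Frame (pair hQ) m) {a : F} (ha : a ≠ 0)
    {v₀ : V} (hv₀ : Q v₀ = -a) (n : ℕ) (hn : n ≤ m) :
    ∃ g : (pair hQ).isom,
      Abelianization.of ((equiv hQ).symm g) = Abelianization.of (orefl Q v₀) ^ n ∧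
      g • Fr.C0 = Fr.ch (1, fun j => decide ((j : ℕ) < n)) := by
  suffices h : ∃ g : (pair hQ).isom,
      Abelianization.of ((equiv hQ).symm g) = Abelianization.of (orefl Q v₀) ^ n ∧
      ∀ j : Fin m, ((j : ℕ) < n → (g : V ≃ₗ[F] V) (Fr.e j) = a • Fr.f j) ∧
        (¬(j : ℕ) < n → (g : V ≃ₗ[F] V) (Fr.e j) = Fr.e j) by
    obtain ⟨g, hg, hgj⟩ := h
    refine ⟨g, hg, Fr.sp_ch_map fun j => ?_⟩
    by_cases hj : (j : ℕ) < n
    · exact ⟨a, ha, by simpa [Frame.gen, Frame.idx, hj] using (hgj j).1 hj⟩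
    · exact ⟨1, one_ne_zero, by simpa [Frame.gen, Frame.idx, hj] using (hgj j).2 hj⟩
  induction n with
  | zero => exact ⟨1, by simp, fun j => ⟨fun h => absurd h (Nat.not_lt_zero _), fun _ => rfl⟩⟩
  | succ n ih =>
    obtain ⟨g, hg, hgj⟩ := ih (by omega)
    set l : Fin m := ⟨n, by omega⟩ with hl
    set v : V := Fr.e l - a • Fr.f l with hv
    have hQv : Q v = -a := by
      rw [hv, sub_eq_add_neg, ← neg_smul, Q_add, Q_smul, polar_smul_right,
        show Q (Fr.e l) = 0 from Fr.rel.Ne l, show Q (Fr.f l) = 0 from Fr.rel.Nf l,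
        show polar Q (Fr.e l) (Fr.f l) = 1 from (Fr.rel.Bef l l).trans (if_pos rfl), smul_eq_mul]
      ring
    have hve : ∀ j, polar Q v (Fr.e j) = if j = l then -a else 0 := fun j => by
      rw [hv, sub_eq_add_neg, ← neg_smul, polar_add_left, polar_smul_left,
        show polar Q (Fr.e l) (Fr.e j) = 0 from Fr.rel.Bee l j,
        show polar Q (Fr.f l) (Fr.e j) = _ from Fr.rel.Bfe j l, pair_ε, smul_eq_mul]
      split <;> simp
    have hvf : ∀ j, j ≠ l → polar Q v (Fr.f j) = 0 := fun j hj => by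
      rw [hv, sub_eq_add_neg, ← neg_smul, polar_add_left, polar_smul_left,
        show polar Q (Fr.f l) (Fr.f j) = 0 from Fr.rel.Bff l j,
        show polar Q (Fr.e l) (Fr.f j) = _ from Fr.rel.Bef l j, if_neg (Ne.symm hj), smul_zero,
        add_zero]
    refine ⟨equiv hQ (orefl Q v) * g, ?_, fun j => ⟨fun hj => ?_, fun hj => ?_⟩⟩
    · rw [map_mul, MulEquiv.symm_apply_apply, map_mul, hg,
        of_orefl_eq hQ (hQv ▸ neg_ne_zero.2 ha) (hQv.trans hv₀.symm), pow_succ']
    · show refl Q v ((g : V ≃ₗ[F] V) (Fr.e j)) = _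
      by_cases hjn : (j : ℕ) < n
      · rw [(hgj j).1 hjn, map_smul,
          refl_fix Q (hvf j fun e => by rw [e, hl] at hjn; simp at hjn)]
      · obtain rfl : j = l := Fin.ext (by simp [hl]; omega)
        rw [(hgj l).2 hjn, refl_apply, hve, if_pos rfl, hQv, inv_mul_cancel₀ (neg_ne_zero.2 ha),
          one_smul, hv, sub_sub_cancel]
    · show refl Q v ((g : V ≃ₗ[F] V) (Fr.e j)) = _
      have hne : j ≠ l := fun e => hj (by rw [e]; exact Nat.lt_succ_self n)
      rw [(hgj j).2 (by omega), refl_fix Q (by rw [hve, if_neg hne])]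

/-- A reflection in a vector of the anisotropic part fixes the base chamber. -/
theorem orefl_fix (hQ : Nondeg Q) {m : ℕ} (Fr : Frame (pair hQ) m) {w : V} (hw : Fr.IsW w) :
    equiv hQ (orefl Q w) • Fr.C0 = Fr.C0 := by
  refine Fr.sp_ch_map fun j => ⟨1, one_ne_zero, ?_⟩
  rw [one_smul]
  refine refl_fix Q ?_
  exact (pair hQ).eq_zero_symm (hw j).1

end Cfsg.Agent.Lib.SteinbergChar.Orth
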