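import Cfsg.Agent.Lib.SteinbergChar.Middle
import Cfsg.Agent.Lib.SteinbergChar.OrthFrame
import Cfsg.Agent.Lib.Char2Inv.OrthOmega

/-!
The unipotent radical lies in the commutator subgroup of the orthogonal group; unipotent elements of
that subgroup fixing the base chamber are trivial on the anisotropic part.
-/

set_option autoImplicit false
set_option linter.style.haveILetI false

namespace Cfsg.Agent.Lib.SteinbergChar.Orth

open Module QuadraticMap
open Cfsg.Agent.Lib.Forms

variable {F V : Type*} [Field F] [Finite F] [AddCommGroup V] [Module F V] [FiniteDimensional F V]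
  {Q : QuadraticForm F V} {m : ℕ}

omit [Finite F] in
theorem of_sq (hQ : Nondeg Q) (h : (∃ a : F, a ≠ 0 ∧ a ≠ 1) ∨ finrank F V ≠ 4) (g : orth Q) :
    Abelianization.of g * Abelianization.of g = 1 := by
  have hg : g ∈ Subgroup.closure (reflSet Q) := by rw [closure_reflSet hQ h]; trivial
  induction hg using Subgroup.closure_induction with
  | mem x hx =>
    obtain ⟨v, -, rfl⟩ := hx
    exact of_orefl_sq v
  | one => rw [map_one, mul_one]
  | mul x y _ _ ihx ihy => rw [map_mul, mul_mul_mul_comm, ihx, ihy, mul_one]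
  | inv x _ ih => rw [map_inv, ← mul_inv, ih, inv_one]

/-- In characteristic two the image in the abelianisation is read off from the Dickson invariant. -/
theorem of_eq_one_of_dickson [CharP F 2] (hQ : Nondeg Q)
    (h : (∃ a : F, a ≠ 0 ∧ a ≠ 1) ∨ finrank F V ≠ 4) (g : orth Q) (hg : dickson Q g = 0) :
    Abelianization.of g = 1 := by
  have hgen : ∀ x : orth Q, Abelianization.of x = 1 ∨
      ∃ v, Q v ≠ 0 ∧ Abelianization.of x = Abelianization.of (orefl Q v) := by
    intro x
    have hx : x ∈ Subgroup.closure (reflSet Q) := by rw [closure_reflSet hQ h]; trivial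
    induction hx using Subgroup.closure_induction with
    | mem y hy =>
      obtain ⟨v, hv, rfl⟩ := hy
      exact Or.inr ⟨v, hv, rfl⟩
    | one => exact Or.inl (map_one _)
    | mul y z _ _ ihy ihz =>
      rcases ihy with hy | ⟨v, hv, hy⟩
      · rw [map_mul, hy, one_mul]; exact ihz
      rcases ihz with hz | ⟨w, hw, hz⟩
      · exact Or.inr ⟨v, hv, by rw [map_mul, hy, hz, mul_one]⟩
      · refine Or.inl ?_
        obtain ⟨c, hc⟩ := Char2Inv.OrthOmega.orefl_conj hQ hw hv
        rw [map_mul, hy, hz, ← hc, map_mul, map_mul, map_inv, mul_comm (Abelianization.of c),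
          mul_inv_cancel_right, of_orefl_sq]
    | inv y _ ih =>
      rcases ih with hy | ⟨v, hv, hy⟩
      · exact Or.inl (by rw [map_inv, hy, inv_one])
      · exact Or.inr ⟨v, hv, by rw [map_inv, hy, inv_eq_of_mul_eq_one_left (of_orefl_sq v)]⟩
  rcases hgen g with h1 | ⟨v, hv, h1⟩
  · exact h1
  exfalso
  have h2 : dicksonHom hQ h g = dicksonHom hQ h (orefl Q v) := by
    rw [← Abelianization.lift_apply_of (dicksonHom hQ h) g, h1, Abelianization.lift_apply_of]
  rw [dicksonHom_orefl hQ h hv] at h2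
  have h3 := Multiplicative.ofAdd.injective h2
  rw [hg] at h3
  exact zero_ne_one h3

variable {hQ : Nondeg Q} (Fr : Frame (pair hQ) m)

/-- The anisotropic part of a frame. -/
def wsub : Submodule F V where
  carrier := {w | Fr.IsW w}
  add_mem' {a b} ha hb := fun j => by
    rw [map_add, map_add, (ha j).1, (hb j).1, (ha j).2, (hb j).2]; simp
  zero_mem' := fun j => by simp
  smul_mem' c a ha := fun j => by
    rw [map_smul, map_smul, (ha j).1, (ha j).2]; simp

omit [Finite F] [FiniteDimensional F V] in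
theorem mem_wsub {w : V} : w ∈ wsub Fr ↔ Fr.IsW w := Iff.rfl

/-- The coordinates attached to a frame. -/
noncomputable def coordEquiv : V ≃ₗ[F] ((Fin m → F) × (Fin m → F)) × wsub Fr where
  toFun x := ((fun j => Fr.a j x, fun j => Fr.b j x), ⟨Fr.pr x, Fr.pr_isW x⟩)
  map_add' x y := by
    refine Prod.ext (Prod.ext (funext fun j => ?_) (funext fun j => ?_)) (Subtype.ext ?_) <;>
      simp
  map_smul' c x := by
    refine Prod.ext (Prod.ext (funext fun j => ?_) (funext fun j => ?_)) (Subtype.ext ?_) <;>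
      simp
  invFun p := (p.2 : V) + ∑ j, p.1.1 j • Fr.e j + ∑ j, p.1.2 j • Fr.f j
  left_inv x := (Fr.expand x).symm
  right_inv p := by
    have hw : Fr.IsW (p.2 : V) := p.2.2
    refine Prod.ext (Prod.ext (funext fun j => Fr.a_comb j hw _ _)
      (funext fun j => Fr.b_comb j hw _ _)) (Subtype.ext ?_)
    show Fr.pr _ = _
    rw [map_add, map_add, map_sum, map_sum, Fr.pr_of_isW hw]
    simp [Frame.pr_e, Frame.pr_f]

omit [Finite F] in
theorem finrank_eq : finrank F V = 2 * m + finrank F (wsub Fr) := by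
  rw [(coordEquiv Fr).finrank_eq, Module.finrank_prod, Module.finrank_prod, finrank_fin_fun]
  omega

omit [Finite F] in
theorem finrank_C : finrank F (Fr.C m) = m := by
  rw [← Fr.C0_sp, Fr.C0.dim m le_rfl]

/-- The radical has even Dickson invariant in characteristic two. -/
theorem dickson_U [CharP F 2] {u : (pair hQ).isom} (hu : u ∈ Fr.U) :
    dickson Q ((equiv hQ).symm u) = 0 := by
  let W := wsub Fr
  let Q' : QuadraticForm F (V × W) := Q.prod (res Q W)
  have hQ' : Nondeg Q' := by
    refine prod_nondeg hQ fun w hw => Subtype.ext (hQ w.1 fun y => ?_)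
    have h1 : polar Q (w : V) (Fr.pr y) = 0 := hw ⟨Fr.pr y, Fr.pr_isW y⟩
    rw [Fr.expand y, polar_add_right, polar_add_right, h1]
    have h2 : ∀ j, polar Q (w : V) (Fr.e j) = 0 := fun j => (pair hQ).eq_zero_symm (w.2 j).1
    have h3 : ∀ j, polar Q (w : V) (Fr.f j) = 0 := fun j => (pair hQ).eq_zero_symm (w.2 j).2
    rw [← polarBilin_apply_apply, ← polarBilin_apply_apply, map_sum, map_sum]
    simp [h2, h3]
  let g : orth Q := (equiv hQ).symm u
  let g' : orth Q' := ⟨g.1.prodCongr (LinearEquiv.refl F W), fun v => by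
    show Q (g.1 v.1) + _ = Q v.1 + _
    rw [g.2]; rfl⟩
  let ψ : (Fr.C m) × W →ₗ[F] V × W :=
    ((Fr.C m).subtype ∘ₗ LinearMap.fst F (Fr.C m) W + W.subtype ∘ₗ LinearMap.snd F (Fr.C m) W).prod
      (LinearMap.snd F (Fr.C m) W)
  have hψ : Function.Injective ψ := by
    rw [injective_iff_map_eq_zero]
    rintro ⟨c, w⟩ h
    have h1 : (w : W) = 0 := congrArg Prod.snd h
    have h2 : (c : V) + (w : V) = 0 := congrArg Prod.fst h
    rw [h1] at h2 ⊢
    rw [Submodule.coe_zero, add_zero] at h2
    exact Prod.ext (Subtype.ext h2) rfl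
  have hU : ∀ x ∈ LinearMap.range ψ, Q' x = 0 := by
    rintro _ ⟨⟨c, w⟩, rfl⟩
    show Q ((c : V) + (w : V)) + Q (w : V) = 0
    rw [Q_add, show Q (c : V) = 0 from (Fr.C_ts m _ c.2).1,
      show polar Q (c : V) (w : V) = 0 from Fr.isW_mem_perp w.2 _ c.2]
    linear_combination (Q (w : V)) * CharTwo.two_eq_zero (R := F)
  have hUm : finrank F (LinearMap.range ψ) = m + finrank F W := by
    rw [LinearMap.finrank_range_of_inj hψ, Module.finrank_prod, finrank_C Fr]
  have hdim : finrank F (V × W) = 2 * (m + finrank F W) := by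
    have h1 := finrank_eq Fr
    show finrank F (V × W) = _
    rw [Module.finrank_prod, h1]
    show 2 * m + finrank F W + finrank F W = _
    omega
  have hstab : (LinearMap.range ψ).map (g' : (V × W) ≃ₗ[F] V × W).toLinearMap =
      LinearMap.range ψ := by
    refine Submodule.eq_of_le_of_finrank_eq ?_ (LinearEquiv.finrank_map_eq _ _)
    rintro _ ⟨_, ⟨⟨c, w⟩, rfl⟩, rfl⟩
    refine ⟨(⟨(u : V ≃ₗ[F] V) c + ((u : V ≃ₗ[F] V) w - w),
      add_mem (Fr.U_C hu c.2) (Fr.U_w hu w.2)⟩, w), ?_⟩
    refine Prod.ext ?_ rfl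
    show (u : V ≃ₗ[F] V) c + ((u : V ≃ₗ[F] V) w - w) + (w : V) =
      (u : V ≃ₗ[F] V) ((c : V) + (w : V))
    rw [map_add]; abel
  have h0 := Char2Inv.OrthOmega.dickson_stabiliser hQ' hdim hU hUm g' hstab
  have hr : LinearMap.range (dev g'.1) =
      (LinearMap.range (dev g.1)).map (LinearMap.inl F V W) := by
    rw [← LinearMap.range_comp]
    refine le_antisymm ?_ ?_
    · rintro _ ⟨v, rfl⟩
      refine ⟨v.1, Prod.ext rfl ?_⟩
      show (0 : W) = v.2 - v.2
      rw [sub_self]
    · rintro _ ⟨v, rfl⟩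
      refine ⟨(v, 0), Prod.ext rfl ?_⟩
      show (0 : W) - 0 = 0
      rw [sub_self]
  rw [dickson, hr, ← (Submodule.equivMapOfInjective _ LinearMap.inl_injective _).finrank_eq] at h0
  exact h0

/-- The radical lies in the commutator subgroup. -/
theorem U_le_om (p : ℕ) [Fact p.Prime] [CharP F p]
    (h : (∃ a : F, a ≠ 0 ∧ a ≠ 1) ∨ finrank F V ≠ 4) : Fr.U ≤ om Q hQ := by
  intro u hu
  rw [mem_om_iff]
  rcases (Fact.out : p.Prime).eq_two_or_odd with hp | hp
  · subst hp
    exact of_eq_one_of_dickson hQ h _ (dickson_U Fr hu)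
  · obtain ⟨k, hk⟩ := Fr.isPGroup_U p ⟨u, hu⟩
    have h1 : Abelianization.of ((equiv hQ).symm u) ^ p ^ k = 1 := by
      rw [← map_pow, ← map_pow, show u ^ p ^ k = 1 from congrArg Subtype.val hk, map_one, map_one]
    have h2 : Abelianization.of ((equiv hQ).symm u) ^ 2 = 1 := by rw [pow_two, of_sq hQ h]
    refine orderOf_eq_one_iff.1 (Nat.dvd_one.1 ?_)
    have hcop : Nat.Coprime (p ^ k) 2 :=
      (Nat.coprime_two_right.2 (Nat.odd_iff.2 hp)).pow_left k
    rw [← hcop.gcd_eq_one]
    exact Nat.dvd_gcd (orderOf_dvd_of_pow_eq_one h1) (orderOf_dvd_of_pow_eq_one h2)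

/-- Unipotent elements of the commutator subgroup fixing the base chamber are trivial on the
anisotropic part. -/
theorem mid (p : ℕ) [Fact p.Prime] [CharP F p]
    (hd : p = 2 → finrank F (wsub Fr) ≤ 2) (h : (∃ a : F, a ≠ 0 ∧ a ≠ 1) ∨ finrank F V ≠ 4)
    {g : (pair hQ).isom} (hg : g ∈ om Q hQ) (hord : ∃ k, orderOf g = p ^ k)
    (hfix : g • Fr.C0 = Fr.C0) {w : V} (hw : Fr.IsW w) : Fr.pr ((g : V ≃ₗ[F] V) w) = w := by
  obtain ⟨k, hk⟩ := hord
  let W := wsub Fr
  let θ : Module.End F W :=
    ((Fr.pr ∘ₗ (g : V ≃ₗ[F] V).toLinearMap) ∘ₗ W.subtype).codRestrict W fun y => Fr.pr_isW _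
  have hθ : ∀ y : W, (θ y : V) = Fr.pr ((g : V ≃ₗ[F] V) y) := fun _ => rfl
  have hQθ : ∀ y : W, Q (θ y : V) = Q (y : V) := by
    intro y
    have h1 := Fr.fix_mem_perp hfix m (Fr.isW_mem_perp y.2)
    conv_rhs => rw [← show Q ((g : V ≃ₗ[F] V) y) = Q (y : V) from g.2.2 y,
      Fr.expand ((g : V ≃ₗ[F] V) y)]
    rw [show Q (Fr.pr _ + _ + _) = _ from Fr.rel.N_comb (Fr.pr_isW _) _ _, hθ]
    simp [fun j : Fin m => Frame.mem_perp_C (Fr := Fr) |>.1 h1 j j.2, FormPair.ρ_zero, pair_N]
  have hBθ : ∀ y z : W, polar Q (θ y : V) (θ z : V) = polar Q (y : V) (z : V) := by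
    intro y z
    have h1 := hQθ (y + z)
    rw [map_add, Submodule.coe_add, Submodule.coe_add] at h1
    simp only [polar, h1, hQθ]
  have hiter : ∀ n : ℕ, ∀ y : W,
      ((θ ^ n) y : V) = Fr.pr (((g ^ n : (pair hQ).isom) : V ≃ₗ[F] V) y) := by
    intro n
    induction n with
    | zero => intro y; exact (Fr.pr_of_isW y.2).symm
    | succ n ih =>
      intro y
      rw [pow_succ' θ, Module.End.mul_apply, hθ, ih, pow_succ' g]
      exact (Fr.pr_fix hfix
        (Fr.fix_mem_perp (Fr.pow_fix hfix n) m (Fr.isW_mem_perp y.2))).symm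
  have hpow : θ ^ p ^ k = 1 := by
    refine LinearMap.ext fun y => Subtype.ext ?_
    rw [hiter, ← hk, pow_orderOf_eq_one]
    exact Fr.pr_of_isW y.2
  rcases subsingleton_or_nontrivial W with hWs | hWn
  · have h0 : w = 0 := congrArg Subtype.val (Subsingleton.elim (⟨w, hw⟩ : W) 0)
    rw [h0, map_zero, map_zero]
  haveI : CharP (Module.End F W) p := charP_of_injective_algebraMap
    (R := F) (A := Module.End F W) (fun a b hab => by
      obtain ⟨v, hv⟩ := exists_ne (0 : W)
      have := LinearMap.congr_fun hab v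
      simp only [Module.algebraMap_end_apply] at this
      exact smul_left_injective F hv this) p
  have hnil : (θ - 1) ^ p ^ k = 0 := by
    have h1 := sub_pow_char_pow_of_commute (R := Module.End F W) (p := p) (n := k)
      (Commute.one_right θ)
    rw [one_pow, hpow, sub_self] at h1
    exact h1
  have haniso : ∀ y : W, Q (y : V) = 0 → y = 0 := fun y hy => Subtype.ext (Fr.aniso' y.2 hy)
  by_cases hone : θ = 1
  · have := congrArg Subtype.val (LinearMap.congr_fun hone ⟨w, hw⟩)
    exact this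
  exfalso
  -- a fixed vector which is a value of `θ - 1`
  obtain ⟨y₀, hy₀⟩ : ∃ y, (θ - 1) y ≠ 0 := by
    by_contra hall
    push Not at hall
    exact hone (sub_eq_zero.1 (LinearMap.ext hall))
  classical
  have hex : ∃ n : ℕ, ((θ - 1 : Module.End F W) ^ n) ((θ - 1) y₀) = 0 := ⟨p ^ k, by rw [hnil]; rfl⟩
  obtain ⟨n, hn⟩ : ∃ n, Nat.find hex = n + 1 := ⟨Nat.find hex - 1, by
    have : Nat.find hex ≠ 0 := fun e => hy₀ (by have := Nat.find_spec hex; rwa [e, pow_zero] at this)
    omega⟩
  set u := ((θ - 1) ^ n) ((θ - 1) y₀) with hu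
  have hu0 : u ≠ 0 := Nat.find_min hex (by omega)
  have hu1 : (θ - 1) u = 0 := by
    have := Nat.find_spec hex
    rwa [hn, pow_succ', Module.End.mul_apply, ← hu] at this
  have hθu : θ u = u := sub_eq_zero.1 (by rwa [LinearMap.sub_apply, Module.End.one_apply] at hu1)
  have hperp : ∀ y : W, polar Q (u : V) ((θ - 1) y : W) = 0 := by
    intro y
    rw [LinearMap.sub_apply, Module.End.one_apply, Submodule.coe_sub, polar_sub_right]
    have h1 := hBθ u y
    rw [hθu] at h1
    rw [h1, sub_self]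
  have huu : polar Q (u : V) (u : V) = 0 := by
    have : u = (θ - 1) (((θ - 1 : Module.End F W) ^ n) y₀) := by
      rw [hu, ← Module.End.mul_apply, ← Module.End.mul_apply, ← pow_succ, ← pow_succ']
    nth_rewrite 2 [this]
    exact hperp _
  rw [polar_self'] at huu
  rcases (Fact.out : p.Prime).eq_two_or_odd with hp | hp
  swap
  · have h2 : (2 : F) ≠ 0 := by
      intro h2
      have h3 : p ∣ 2 := (CharP.cast_eq_zero_iff F p 2).1 (by exact_mod_cast h2)
      have := (Nat.prime_dvd_prime_iff_eq (Fact.out : p.Prime) Nat.prime_two).1 h3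
      omega
    exact hu0 (haniso u ((mul_eq_zero.1 huu).resolve_left h2))
  subst hp
  have hQu : Q (u : V) ≠ 0 := fun h0 => hu0 (haniso u h0)
  -- the orthogonal of `u` in `W` is its span
  have hspan : ∀ y : W, polar Q (u : V) (y : V) = 0 → ∃ c : F, y = c • u := by
    intro y hy
    by_contra hne
    push Not at hne
    have hli : LinearIndependent F ![u, y] := by
      rw [LinearIndependent.pair_iff' hu0]
      exact fun c => (hne c).symm
    have hfr : finrank F W = 2 := by
      have h1 := hli.fintype_card_le_finrank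
      have h2 := hd rfl
      rw [Fintype.card_fin] at h1
      exact le_antisymm h2 h1
    let b := basisOfLinearIndependentOfCardEqFinrank hli (by rw [Fintype.card_fin, hfr])
    have hall : ∀ z : W, polar Q (u : V) (z : V) = 0 := by
      intro z
      rw [← b.sum_repr z, Fin.sum_univ_two]
      simp [b, polar_add_right, polar_smul_right, hy, CharTwo.two_eq_zero (R := F)]
    apply hu0
    refine Subtype.ext (hQ (u : V) fun x => ?_)
    have h1 : polar Q (u : V) (Fr.pr x) = 0 := hall ⟨Fr.pr x, Fr.pr_isW x⟩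
    rw [Fr.expand x, polar_add_right, polar_add_right, h1, ← polarBilin_apply_apply,
      ← polarBilin_apply_apply, map_sum, map_sum]
    have h2 : ∀ j, polar Q (u : V) (Fr.e j) = 0 := fun j => (pair hQ).eq_zero_symm (u.2 j).1
    have h3 : ∀ j, polar Q (u : V) (Fr.f j) = 0 := fun j => (pair hQ).eq_zero_symm (u.2 j).2
    simp [h2, h3]
  have hform : ∀ y : W,
      θ y = y ∨ θ y = y + ((Q (u : V))⁻¹ * polar Q (u : V) (y : V)) • u := by
    intro y
    obtain ⟨c, hc⟩ := hspan ((θ - 1) y) (hperp y)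
    rw [LinearMap.sub_apply, Module.End.one_apply, sub_eq_iff_eq_add'] at hc
    have h1 := hQθ y
    rw [hc, Submodule.coe_add, Submodule.coe_smul, Q_add, Q_smul, polar_smul_right,
      polar_comm Q (y : V), smul_eq_mul] at h1
    have h2 : c * (c * Q (u : V) + polar Q (u : V) (y : V)) = 0 := by linear_combination h1
    rcases mul_eq_zero.1 h2 with h3 | h3
    · left; rw [hc, h3, zero_smul, add_zero]
    · right
      rw [hc, CharTwo.add_eq_zero.1 h3 |>.symm]
      congr 2
      field_simp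
  let δ : W →ₗ[F] W := θ - 1
  let δ' : W →ₗ[F] W := (((Q (u : V))⁻¹ • polarBilin Q (u : V)) ∘ₗ W.subtype).smulRight u
  have hcase : δ = δ' := by
    by_contra hne
    obtain ⟨a, ha⟩ : ∃ a, δ a ≠ δ' a := by
      by_contra hall
      push Not at hall
      exact hne (LinearMap.ext hall)
    have key : ∀ y : W, δ y = 0 ∨ δ y = δ' y := fun y => (hform y).imp
      (fun e => by show θ y - y = 0; rw [e, sub_self])
      (fun e => by show θ y - y = _; rw [e, add_sub_cancel_left]; rfl)
    have ha0 : δ a = 0 := (key a).resolve_right ha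
    have hy0 : δ y₀ = δ' y₀ := (key y₀).resolve_left hy₀
    rcases key (a + y₀) with h1 | h1
    · exact hy₀ (by rwa [map_add, ha0, zero_add] at h1)
    · rw [map_add, map_add, ha0, zero_add, hy0] at h1
      exact ha (by rw [ha0]; exact (add_eq_right.1 h1.symm).symm)
  set r := equiv hQ (orefl Q (u : V)) with hr
  have hrfix : r • Fr.C0 = Fr.C0 := orefl_fix hQ Fr u.2
  have hru : r * g ∈ Fr.U := by
    refine Fr.mem_U_of_lead (by rw [mul_smul, hfix, hrfix]) (fun j => ?_) fun y hy => ?_
    · show Fr.a j (refl Q (u : V) ((g : V ≃ₗ[F] V) (Fr.e j))) = 1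
      rw [refl_fix Q, Fr.lead_one 2 ⟨k, hk⟩ hfix j]
      exact (pair hQ).eq_zero_symm
        (Fr.isW_mem_perp u.2 _ (Fr.C_mono j.2 (Fr.fix_mem_C hfix _ (Fr.e_mem_C (Nat.lt_succ_self _)))))
    · show Fr.pr (refl Q (u : V) ((g : V ≃ₗ[F] V) y)) = y
      set z := (g : V ≃ₗ[F] V) y with hz
      have hzW : (θ ⟨y, hy⟩ : V) = Fr.pr z := rfl
      have hpz : polar Q (u : V) z = polar Q (u : V) (θ ⟨y, hy⟩ : V) := by
        rw [hzW]
        conv_lhs => rw [Fr.expand z]
        rw [polar_add_right, polar_add_right, ← polarBilin_apply_apply (Q := Q) (u : V) (∑ _, _),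
          ← polarBilin_apply_apply (Q := Q) (u : V) (∑ _, _), map_sum, map_sum]
        have h2 : ∀ j, polar Q (u : V) (Fr.e j) = 0 := fun j => (pair hQ).eq_zero_symm (u.2 j).1
        have h3 : ∀ j, polar Q (u : V) (Fr.f j) = 0 := fun j => (pair hQ).eq_zero_symm (u.2 j).2
        simp [h2, h3]
      have hval : θ ⟨y, hy⟩ = ⟨y, hy⟩ + ((Q (u : V))⁻¹ * polar Q (u : V) y) • u := by
        have := LinearMap.congr_fun hcase ⟨y, hy⟩
        rw [show δ ⟨y, hy⟩ = θ ⟨y, hy⟩ - ⟨y, hy⟩ from rfl, sub_eq_iff_eq_add'] at this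
        exact this
      rw [refl_apply, map_sub, map_smul, ← hzW, Fr.pr_of_isW u.2, hpz, hval]
      simp only [Submodule.coe_add, Submodule.coe_smul, polar_add_right, polar_smul_right,
        polar_self', CharTwo.two_eq_zero (R := F), zero_mul, smul_zero, add_zero]
      abel
  have h1 := dickson_U Fr hru
  rw [map_mul, hr, MulEquiv.symm_apply_apply] at h1
  have h2 : dicksonHom hQ h ((equiv hQ).symm g) = 1 :=
    Abelianization.commutator_subset_ker _ (mem_om.1 hg)
  have h3 : dicksonHom hQ h (orefl Q (u : V) * (equiv hQ).symm g) =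
      Multiplicative.ofAdd (1 : ZMod 2) := by
    rw [map_mul, h2, mul_one, dicksonHom_orefl hQ h hQu]
  have h4 : Multiplicative.ofAdd (dickson Q (orefl Q (u : V) * (equiv hQ).symm g)) =
      Multiplicative.ofAdd (1 : ZMod 2) := h3
  rw [h1] at h4
  exact zero_ne_one (Multiplicative.ofAdd.injective h4)

end Cfsg.Agent.Lib.SteinbergChar.Orth
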