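import Cfsg.Agent.Lib.SteinbergChar.Main
import Cfsg.Agent.Lib.Forms.Bridge
import Cfsg.Agent.S2566

/-!
The group `PΩ⁺₄(2)` (order 18): it maps onto `Sym 3` with kernel of odd order.
-/

set_option autoImplicit false
set_option linter.style.haveILetI false

namespace Cfsg.Agent.Lib.SteinbergChar.PlusFourTwo

open Cfsg.Agent.Lib.Forms
open scoped commutatorElement

/-- A surjection with kernel of order prime to `p` pulls back Steinberg characters. -/
theorem hasSteinberg_of_surjective {p : ℕ} [Fact p.Prime] {G H : Type*} [Group G] [Group H]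
    [Finite G] (π : G →* H) (hπ : Function.Surjective π)
    (hker : ∀ (g : G) (k : ℕ), π g = 1 → g ^ p ^ k = 1 → g = 1) (h : HasSteinberg p H) :
    HasSteinberg p G := by
  obtain ⟨χ, hχ, hP⟩ := h
  refine ⟨χ ∘ π, Characters.Basic.isIrrCharacter_comp π hπ hχ, fun P => ?_⟩
  let P' : Sylow p H := P.mapSurjective (f := π) hπ
  obtain ⟨h1, h2⟩ := hP P'
  have hinj : ∀ x : G, x ∈ P → π x = 1 → x = 1 := by
    intro x hx hx1
    obtain ⟨k, hk⟩ := P.isPGroup' ⟨x, hx⟩
    exact hker x k hx1 (congrArg Subtype.val hk)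
  have hcard : Nat.card P' = Nat.card P := by
    refine (Nat.card_congr (Equiv.ofBijective
      (fun x : P => (⟨π x, Subgroup.mem_map_of_mem π x.2⟩ : (P.1).map π)) ⟨fun a b hab => ?_, ?_⟩)).symm
    · have h3 : π (a : G) = π b := congrArg Subtype.val hab
      refine Subtype.ext (inv_mul_eq_one.1 (hinj _ (mul_mem (inv_mem a.2) b.2) ?_))
      rw [map_mul, map_inv, h3, inv_mul_cancel]
    · rintro ⟨_, x, hx, rfl⟩
      exact ⟨⟨x, hx⟩, rfl⟩
  refine ⟨?_, fun x hx hx1 => h2 (π x) (Subgroup.mem_map_of_mem _ hx) fun h => hx1 (hinj x hx h)⟩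
  rw [Function.comp_apply, map_one, h1, hcard]

/-- The Steinberg character of `Sym 3` for the prime two. -/
theorem hasSteinberg_perm3 : HasSteinberg 2 (Equiv.Perm (Fin 3)) := by
  classical
  haveI : Fact (Nat.Prime 2) := ⟨Nat.prime_two⟩
  let U : Subgroup (Equiv.Perm (Fin 3)) :=
    { carrier := {g | g = 1 ∨ g = Equiv.swap 1 2}
      mul_mem' := by intro a b ha hb; rcases ha with rfl | rfl <;> rcases hb with rfl | rfl <;> decide
      one_mem' := Or.inl rfl
      inv_mem' := by intro a ha; rcases ha with rfl | rfl <;> decide }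
  have hU : ∀ g, g ∈ U → g = 1 ∨ g = Equiv.swap 1 2 := fun g hg => hg
  let D : Datum (Equiv.Perm (Fin 3)) (Fin 3) :=
    { L := {Finset.univ}
      L_smul := fun g ℓ hℓ => by
        rw [Set.mem_singleton_iff] at hℓ ⊢
        subst hℓ
        exact Finset.eq_univ_of_card _ (by rw [Finset.card_map, Finset.card_univ])
      U := U
      C := 0
      U_fix := fun u hu => by rcases hU u hu with rfl | rfl <;> decide
      x₀ := 1
      U_free := fun u hu h => by
        rcases hU u hu with rfl | rfl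
        · rfl
        · exact absurd h (by decide)
      rank := fun i => if i = 0 then 0 else 1
      asc := fun x hx => by
        refine ⟨Finset.univ, Set.mem_singleton _, Finset.mem_univ x, fun y _ hyx => ?_⟩
        have h1 := hx 1 (Or.inl rfl)
        have h2 := hx (Equiv.swap 1 2) (Or.inr rfl)
        clear hx
        revert h1 h2 hyx
        revert x y
        decide
      v := fun i => if i = 1 then 1 else if i = 0 then -1 else 0
      v_mem := by
        intro ℓ hℓ
        rw [Set.mem_singleton_iff] at hℓ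
        subst hℓ
        simp [Fin.sum_univ_three]
      v_x₀ := by simp
      v_supp := fun u hu hu1 => by
        rcases hU u hu with rfl | rfl
        · exact absurd rfl hu1
        · rw [show (Equiv.swap (1 : Fin 3) 2) • (1 : Fin 3) = 2 from rfl]
          simp
      orbit := fun f _ h => h (Equiv.swap 0 1) }
  have h := D.exists_steinberg 2 ⊥ (fun z hz u _ => by
      rw [Subgroup.mem_bot] at hz; subst hz; rw [one_mul, mul_one])
    (fun z hz => by rw [Subgroup.mem_bot] at hz; subst hz; exact one_smul _ _)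
    (fun z hz => by rw [Subgroup.mem_bot] at hz; subst hz; exact one_smul _ _)
    (fun ⟨u, hu⟩ => ⟨1, Subtype.ext (show u ^ (2 ^ 1) = 1 by rcases hU u hu with rfl | rfl <;> decide)⟩)
    (fun g ⟨k, hk⟩ hfix => by
      have h1 := hfix (Equiv.swap 1 2) (Or.inr rfl)
      have h3 : g ^ 2 = 1 := by
        have hd : 2 ^ k ∣ 6 := hk ▸ (orderOf_dvd_natCard g).trans (by rw [Nat.card_perm, Nat.card_fin]; rfl)
        rw [← orderOf_dvd_iff_pow_eq_one, hk]
        match k, hd with
        | 0, _ => norm_num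
        | 1, _ => norm_num
        | n + 2, hd => exact absurd ((pow_dvd_pow 2 (le_add_self : 2 ≤ n + 2)).trans hd) (by norm_num)
      exact (by decide : ∀ g : Equiv.Perm (Fin 3), Equiv.swap (1 : Fin 3) 2 (g 0) = g 0 →
        g ^ 2 = 1 → g = 1 ∨ g = Equiv.swap 1 2) g h1 h3)
  exact HasSteinberg.of_equiv (QuotientGroup.quotientBot).symm h

local notation "G4" => Cfsg.isometryGroup (ZMod 2) (Cfsg.quadFormPlus 2 (ZMod 2))

open S2566 in
theorem hasSteinberg_zmod :
    HasSteinberg 2 (Cfsg.POmega (ZMod 2) (Cfsg.quadFormPlus 2 (ZMod 2))) := by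
  classical
  haveI : Fact (Nat.Prime 2) := ⟨Nat.prime_two⟩
  let S := Equiv.Perm (Fin 3)
  have hgg : gsw * gsw = 1 := Subtype.ext (Units.ext swp_sq)
  have hgi : gsw⁻¹ = gsw := inv_eq_of_mul_eq_one_left hgg
  let inr : S →* G4 := (MulAut.conj gsw).toMonoidHom.comp toG
  have hc : ∀ s t : S, Commute (toG s) (inr t) := fun s t =>
    Subtype.ext (Units.ext (tmat_comm s t))
  let φ : S × S →* G4 := MonoidHom.noncommCoprod toG inr hc
  have hφ : ∀ s t, φ (s, t) = toG s * inr t := fun _ _ => rfl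
  have hinr : ∀ t, inr t = gsw * toG t * gsw := fun t => by
    show gsw * toG t * gsw⁻¹ = _
    rw [hgi]
  have hinj : Function.Injective φ := by
    rw [injective_iff_map_eq_one]
    rintro ⟨s, t⟩ h
    rw [hφ, mul_eq_one_iff_eq_inv, ← map_inv] at h
    have hs : s = 1 := tmat_sep s t⁻¹ (by
      have := congrArg mat (show toG s = gsw * toG t⁻¹ * gsw by rw [← hinr]; exact h)
      exact this)
    subst hs
    have h' : inr t⁻¹ = 1 := by rw [← h, map_one]
    have h'' : toG t⁻¹ = 1 := (MulAut.conj gsw).injective (by rw [map_one]; exact h')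
    have := tmat_inj t⁻¹ (congrArg mat h'')
    rw [inv_eq_one] at this
    rw [this]; rfl
  have hswap : ∀ s t, gsw * φ (s, t) * gsw = φ (t, s) := by
    intro s t
    rw [hφ t s, (hc t s).eq, hinr s, hφ, hinr t]
    simp only [mul_assoc]
    rw [hgg, mul_one]
  have hcard : Nat.card G4 = 72 := S2566.result.1
  have hidx : φ.range.index = 2 := by
    have h1 : Nat.card φ.range = 36 := by
      rw [← Nat.card_congr (MonoidHom.ofInjective hinj).toEquiv, Nat.card_prod, Nat.card_perm,
        Nat.card_fin]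
      rfl
    have := φ.range.card_mul_index
    rw [h1, hcard] at this
    omega
  haveI hNn : φ.range.Normal := Subgroup.normal_of_index_eq_two hidx
  have hgsw : gsw ∉ φ.range := by
    rintro ⟨⟨s, t⟩, hst⟩
    have h := congrArg (fun x => x * φ (1, t)⁻¹) hst
    have h1 := hswap s t
    rw [hst, hgg, one_mul] at h1
    have h2 : (s, t) = (t, s) := hinj (hst.trans h1)
    obtain rfl : s = t := congrArg Prod.fst h2
    have h3 : φ (s, s) * φ (s, s) = 1 := by rw [hst, hgg]
    have h4 : ∀ r : S, φ (s, s) * φ (r, 1) * φ (s, s) = φ (1, r) := fun r => by rw [hst]; exact hswap r 1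
    have h5 := h4 (Equiv.swap 0 1)
    rw [← map_mul, ← map_mul] at h5
    have h6 : (1 : S) = Equiv.swap 0 1 := by
      have h7 := congrArg Prod.snd (hinj h5)
      have h8 : s * s = 1 := congrArg Prod.fst (hinj (show φ ((s, s) * (s, s)) = φ 1 by rw [map_mul, h3, map_one]))
      simp only [Prod.snd_mul, mul_one] at h7
      rw [h8] at h7
      exact h7
    exact absurd h6 (by decide)
  have hdec : ∀ g : G4, g ∈ φ.range ∨ g * gsw ∈ φ.range := fun g => by
    by_cases hg : g ∈ φ.range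
    · exact Or.inl hg
    · exact Or.inr ((Subgroup.mul_mem_iff_of_index_two hidx).2 (iff_of_false hg hgsw))
  -- the subgroup of equal signs
  let χ : S × S →* ℤˣ :=
    (Equiv.Perm.sign.comp (MonoidHom.fst S S)) * (Equiv.Perm.sign.comp (MonoidHom.snd S S))
  let K : Subgroup G4 := χ.ker.map φ
  have hKmem : ∀ s t, φ (s, t) ∈ K ↔ Equiv.Perm.sign s * Equiv.Perm.sign t = 1 := by
    intro s t
    refine ⟨?_, fun h => ⟨(s, t), h, rfl⟩⟩
    rintro ⟨x, hx, hxe⟩
    rw [hinj hxe] at hx
    exact hx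
  haveI hKn : K.Normal := ⟨by
    rintro _ ⟨⟨s, t⟩, hst, rfl⟩ g
    have key : ∀ a b : S, φ (a, b) * φ (s, t) * (φ (a, b))⁻¹ ∈ K := fun a b => by
      rw [← map_inv, ← map_mul, ← map_mul]
      refine ⟨_, ?_, rfl⟩
      exact (MonoidHom.normal_ker χ).conj_mem _ hst (a, b)
    rcases hdec g with ⟨⟨a, b⟩, rfl⟩ | ⟨⟨a, b⟩, hab⟩
    · exact key a b
    · have hg : g = φ (a, b) * gsw := by rw [hab, mul_assoc, hgg, mul_one]
      have e : g * φ (s, t) * g⁻¹ = φ (a, b) * φ (t, s) * (φ (a, b))⁻¹ := by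
        rw [hg, mul_inv_rev, hgi, ← hswap s t]
        simp only [mul_assoc]
      rw [e, ← map_inv, ← map_mul, ← map_mul]
      refine ⟨_, (MonoidHom.normal_ker χ).conj_mem _ ?_ (a, b), rfl⟩
      show Equiv.Perm.sign t * Equiv.Perm.sign s = 1
      rw [mul_comm]; exact hst⟩
  have hcomm : commutator G4 ≤ K := by
    let q := QuotientGroup.mk' K
    set c := q (φ (Equiv.swap 0 1, 1)) with hcdef
    have hN : ∀ x ∈ φ.range, q x = 1 ∨ q x = c := by
      rintro _ ⟨⟨s, t⟩, rfl⟩
      rcases Int.units_eq_one_or (Equiv.Perm.sign s * Equiv.Perm.sign t) with h | h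
      · exact Or.inl ((QuotientGroup.eq_one_iff _).2 ((hKmem s t).2 h))
      · refine Or.inr (QuotientGroup.eq.2 ?_)
        rw [← map_inv, ← map_mul]
        refine (hKmem _ _).2 ?_
        show Equiv.Perm.sign (s⁻¹ * Equiv.swap 0 1) * Equiv.Perm.sign (t⁻¹ * 1) = 1
        rw [mul_one, map_mul, map_inv, map_inv, Int.units_inv_eq_self,
          Int.units_inv_eq_self, Equiv.Perm.sign_swap (by decide), mul_right_comm, h]
        rfl
    have hcd : q gsw * c = c * q gsw := by
      have h1 : q (φ (1, Equiv.swap 0 1)) = c := by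
        refine (hN _ ⟨_, rfl⟩).resolve_left fun h => ?_
        have h2 := (hKmem _ _).1 ((QuotientGroup.eq_one_iff _).1 h)
        rw [map_one, one_mul, Equiv.Perm.sign_swap (by decide)] at h2
        exact absurd h2 (by decide)
      have h2 : gsw * φ (Equiv.swap 0 1, 1) = φ (1, Equiv.swap 0 1) * gsw := by
        conv_rhs => rw [← hswap, mul_assoc (gsw * _), hgg, mul_one]
      rw [hcdef, ← map_mul, h2, map_mul, h1]
    have hall : ∀ g : G4, ∃ a ∈ ({1, c} : Set (G4 ⧸ K)), q g = a ∨ q g = a * q gsw := by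
      intro g
      rcases hdec g with hg | hg
      · rcases hN g hg with h | h
        · exact ⟨1, Or.inl rfl, Or.inl h⟩
        · exact ⟨c, Or.inr rfl, Or.inl h⟩
      · have e : q g = q (g * gsw) * q gsw := by rw [← map_mul, mul_assoc, hgg, mul_one]
        rcases hN _ hg with h | h
        · exact ⟨1, Or.inl rfl, Or.inr (by rw [e, h])⟩
        · exact ⟨c, Or.inr rfl, Or.inr (by rw [e, h])⟩
    rw [commutator_def, Subgroup.commutator_le]
    intro a _ b _
    refine (QuotientGroup.eq_one_iff _).1 ?_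
    show q ⁅a, b⁆ = 1
    rw [map_commutatorElement, commutatorElement_eq_one_iff_mul_comm]
    obtain ⟨x, hx, hxa⟩ := hall a
    obtain ⟨y, hy, hyb⟩ := hall b
    have hxy : Commute x y := by
      rcases hx with rfl | rfl <;> rcases hy with rfl | rfl <;>
        first
          | exact Commute.refl _
          | exact Commute.one_left _
          | exact Commute.one_right _
    have hxd : ∀ z ∈ ({1, c} : Set (G4 ⧸ K)), Commute z (q gsw) := by
      rintro z (rfl | rfl)
      · exact Commute.one_left _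
      · exact hcd.symm
    rcases hxa with hxa | hxa <;> rcases hyb with hyb | hyb <;> rw [hxa, hyb]
    · exact hxy
    · exact hxy.mul_right (hxd x hx)
    · exact hxy.mul_left (hxd y hy).symm
    · exact ((hxy.mul_right (hxd x hx)).mul_left ((hxd y hy).symm.mul_right (Commute.refl _)))
  -- the projection to the first factor
  have hΩ : ∀ x : Cfsg.Omega (ZMod 2) (Cfsg.quadFormPlus 2 (ZMod 2)), (x : G4) ∈ φ.range := fun x => by
    obtain ⟨y, -, hy⟩ := hcomm x.2
    exact ⟨y, hy⟩
  let π : Cfsg.Omega (ZMod 2) (Cfsg.quadFormPlus 2 (ZMod 2)) →* S :=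
    (MonoidHom.fst S S).comp ((MonoidHom.ofInjective hinj).symm.toMonoidHom.comp
      ((Subgroup.subtype _).codRestrict φ.range hΩ))
  have hπe : ∀ (x : Cfsg.Omega (ZMod 2) (Cfsg.quadFormPlus 2 (ZMod 2))) (s t : S),
      (x : G4) = φ (s, t) → π x = s := by
    intro x s t h
    show ((MonoidHom.ofInjective hinj).symm ⟨x, hΩ x⟩).1 = s
    rw [show (⟨(x : G4), hΩ x⟩ : φ.range) = MonoidHom.ofInjective hinj (s, t) from Subtype.ext h,
      MulEquiv.symm_apply_apply]
  have hπs : Function.Surjective π := by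
    intro s
    refine ⟨⟨⁅toG s, gsw⁆, Subgroup.commutator_mem_commutator trivial trivial⟩, hπe _ s s⁻¹ ?_⟩
    show toG s * gsw * (toG s)⁻¹ * gsw⁻¹ = _
    rw [hgi, hφ, hinr, map_inv]
    simp only [mul_assoc]
  have hker : ∀ (x : Cfsg.Omega (ZMod 2) (Cfsg.quadFormPlus 2 (ZMod 2))) (k : ℕ),
      π x = 1 → x ^ 2 ^ k = 1 → x = 1 := by
    intro x k hx hk
    obtain ⟨⟨s, t⟩, hst, hxe⟩ := hcomm x.2
    have hs : s = 1 := (hπe x s t hxe.symm).symm.trans hx
    subst hs
    have ht : t ^ 2 ^ k = 1 := by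
      have h1 : φ ((1, t) ^ 2 ^ k) = φ 1 := by
        rw [map_pow, hxe, map_one, ← SubgroupClass.coe_pow, hk]; rfl
      exact congrArg Prod.snd (hinj h1)
    have hsg : Equiv.Perm.sign t = 1 := by
      have h1 : Equiv.Perm.sign (1 : S) * Equiv.Perm.sign t = 1 := hst
      rwa [map_one, one_mul] at h1
    have ht1 : t = 1 := by
      have h3 : orderOf t ∣ Nat.gcd (2 ^ k) 6 := Nat.dvd_gcd (orderOf_dvd_of_pow_eq_one ht)
        ((orderOf_dvd_natCard t).trans (by rw [Nat.card_perm, Nat.card_fin]; rfl))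
      have h2 : orderOf t ∣ 2 := h3.trans (by
        rcases k with _ | k
        · norm_num
        · rw [pow_succ', show 6 = 2 * 3 from rfl, Nat.gcd_mul_left,
            Nat.Coprime.gcd_eq_one ((by decide : Nat.Coprime 2 3).pow_left k)])
      have h5 : t ^ 2 = 1 := orderOf_dvd_iff_pow_eq_one.1 h2
      exact (by decide : ∀ u : Equiv.Perm (Fin 3), Equiv.Perm.sign u = 1 → u ^ 2 = 1 → u = 1) t hsg h5
    refine Subtype.ext ?_
    rw [← hxe, ht1]
    exact map_one φ
  refine hasSteinberg_of_surjective (QuotientGroup.lift _ π fun z hz => ?_) ?_ ?_ hasSteinberg_perm3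
  · rw [MonoidHom.mem_ker]
    have hcz : ∀ s : S, Commute (π z) s := fun s => by
      obtain ⟨y, rfl⟩ := hπs s
      rw [Commute, SemiconjBy, ← map_mul, ← map_mul, Subgroup.mem_center_iff.1 hz y]
    have key : ∀ u : S, (∀ s : S, u * s = s * u) → u = 1 := by decide
    exact key _ fun s => (hcz s).eq
  · intro s
    obtain ⟨y, hy⟩ := hπs s
    exact ⟨QuotientGroup.mk y, hy⟩
  · intro g k hg hk
    obtain ⟨y, rfl⟩ := QuotientGroup.mk_surjective g
    rw [QuotientGroup.eq_one_iff]
    have hz : y ^ 2 ^ k ∈ Subgroup.center _ := (QuotientGroup.eq_one_iff _).1 hk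
    have hy1 : π y = 1 := hg
    -- a central element of the kernel with trivial two-power
    have h3 : orderOf y ∣ 2 ^ k * orderOf (y ^ 2 ^ k) := by
      rw [orderOf_dvd_iff_pow_eq_one, pow_mul, pow_orderOf_eq_one]
    obtain ⟨b, r, hr, hbr⟩ := Nat.exists_eq_pow_mul_and_not_dvd (orderOf_pos y).ne' 2 (by norm_num)
    have hyr : y ^ r = 1 := hker _ b (by rw [map_pow, hy1, one_pow])
      (by rw [← pow_mul, ← orderOf_dvd_iff_pow_eq_one, hbr, mul_comm])
    have hgen : Nat.Coprime (2 ^ k) r := ((Nat.prime_two.coprime_iff_not_dvd).2 hr).pow_left k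
    have hbez : y = (y ^ 2 ^ k) ^ Nat.gcdA (2 ^ k) r * (y ^ r) ^ Nat.gcdB (2 ^ k) r := by
      have := Nat.gcd_eq_gcd_ab (2 ^ k) r
      rw [hgen.gcd_eq_one] at this
      rw [← zpow_natCast, ← zpow_natCast, ← zpow_mul, ← zpow_mul, ← zpow_add, ← this]
      simp
    rw [hbez, hyr, one_zpow, mul_one]
    exact zpow_mem hz _

theorem hasSteinberg_card_two {F : Type*} [Field F] [Fintype F] (hF : Fintype.card F = 2) :
    HasSteinberg 2 (Cfsg.POmega F (Cfsg.quadFormPlus 2 F)) := by
  classical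
  haveI : Fact (Nat.Prime 2) := ⟨Nat.prime_two⟩
  let e : ZMod 2 ≃+* F := ZMod.ringEquivOfPrime F Nat.prime_two hF
  let E : GL (Fin 2 ⊕ Fin 2) (ZMod 2) ≃* GL (Fin 2 ⊕ Fin 2) F :=
    Units.mapEquiv e.mapMatrix.toMulEquiv
  have hmv : ∀ (g : GL (Fin 2 ⊕ Fin 2) (ZMod 2)) (u : Fin 2 ⊕ Fin 2 → ZMod 2),
      ((E g : GL (Fin 2 ⊕ Fin 2) F) : Matrix (Fin 2 ⊕ Fin 2) (Fin 2 ⊕ Fin 2) F).mulVec (e ∘ u) =
        e ∘ ((g : Matrix (Fin 2 ⊕ Fin 2) (Fin 2 ⊕ Fin 2) (ZMod 2)).mulVec u) := fun g u =>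
    funext fun k => (RingHom.map_mulVec e.toRingHom
      (g : Matrix (Fin 2 ⊕ Fin 2) (Fin 2 ⊕ Fin 2) (ZMod 2)) u k).symm
  have hq : ∀ u : Fin 2 ⊕ Fin 2 → ZMod 2,
      Cfsg.quadFormPlus 2 F (e ∘ u) = e (Cfsg.quadFormPlus 2 (ZMod 2) u) := fun u => by
    simp [Cfsg.quadFormPlus]
  have hmap : Subgroup.map E.toMonoidHom G4 = Cfsg.isometryGroup F (Cfsg.quadFormPlus 2 F) := by
    ext g
    obtain ⟨g, rfl⟩ := E.surjective g
    rw [show E g = E.toMonoidHom g from rfl, Subgroup.mem_map_iff_mem (f := E.toMonoidHom) E.injective]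
    constructor
    · intro h x y
      obtain ⟨u, rfl⟩ : ∃ u, ⇑e ∘ u = x := ⟨e.symm ∘ x, funext fun j => e.apply_symm_apply _⟩
      show Cfsg.quadFormPlus 2 F (((E g : GL (Fin 2 ⊕ Fin 2) F) :
        Matrix (Fin 2 ⊕ Fin 2) (Fin 2 ⊕ Fin 2) F).mulVec (e ∘ u)) = Cfsg.quadFormPlus 2 F (e ∘ u)
      rw [hmv, hq, hq]
      exact congrArg e (h u u)
    · intro h u v
      have h1 : Cfsg.quadFormPlus 2 F (((E g : GL (Fin 2 ⊕ Fin 2) F) :
        Matrix (Fin 2 ⊕ Fin 2) (Fin 2 ⊕ Fin 2) F).mulVec (e ∘ u)) = Cfsg.quadFormPlus 2 F (e ∘ u) :=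
        h (e ∘ u) (e ∘ v)
      rw [hmv, hq, hq] at h1
      exact e.injective h1
  let iso : G4 ≃* Cfsg.isometryGroup F (Cfsg.quadFormPlus 2 F) :=
    (Subgroup.equivMapOfInjective G4 E.toMonoidHom E.injective).trans (MulEquiv.subgroupCongr hmap)
  let om : Cfsg.Omega (ZMod 2) (Cfsg.quadFormPlus 2 (ZMod 2)) ≃*
      Cfsg.Omega F (Cfsg.quadFormPlus 2 F) :=
    ((commutator G4).equivMapOfInjective _ iso.injective).trans
      (MulEquiv.subgroupCongr (map_commutator_equiv iso))
  haveI : Finite (Cfsg.Omega F (Cfsg.quadFormPlus 2 F)) := inferInstance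
  exact hasSteinberg_quotient_center om.symm hasSteinberg_zmod

end Cfsg.Agent.Lib.SteinbergChar.PlusFourTwo
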