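import Cfsg.Agent.Lib.SteinbergChar.Chambers

/-!
The unipotent radical of the stabiliser of the base chamber: it is a `p`-group, it is regular on the
opposite chambers and its only fixed chambers are the base chamber and, possibly, its thin partner.
-/

set_option autoImplicit false
set_option linter.style.haveILetI false

namespace Cfsg.Agent.Lib.SteinbergChar

open Module
open Cfsg.Agent.Lib.Forms

variable {F V : Type*} [Field F] [AddCommGroup V] [Module F V] {σ : F →+* F}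
  {P : FormPair σ V} {m : ℕ}

instance instFiniteIsom [Finite F] [FiniteDimensional F V] : Finite P.isom := by
  haveI : Finite V := Module.finite_of_finite F
  haveI : Finite (V ≃ₗ[F] V) := Finite.of_injective (fun g => (g : V → V)) DFunLike.coe_injective
  infer_instance

namespace Frame

variable (Fr : Frame P m)

theorem iter_step {g : V ≃ₗ[F] V}
    (hg : ∀ k, ∀ x ∈ Fr.Lv (k + 1), g x - x ∈ Fr.Lv k) {k : ℕ} {x : V} (hx : x ∈ Fr.Lv k) :
    g x ∈ Fr.Lv k := by
  cases k with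
  | zero => simp_all [Fr.Lv_of_le (Nat.zero_le m), C_zero]
  | succ k =>
    have := add_mem (Fr.Lv_mono (Nat.le_succ k) (hg k x hx)) hx
    rwa [sub_add_cancel] at this

/-- The unipotent radical. -/
def U [Finite F] [FiniteDimensional F V] : Subgroup P.isom where
  carrier := {g | ∀ k, ∀ x ∈ Fr.Lv (k + 1), (g : V ≃ₗ[F] V) x - x ∈ Fr.Lv k}
  one_mem' k x _ := by simp
  mul_mem' {g h} hg hh k x hx := by
    have := add_mem (iter_step Fr hg (hh k x hx)) (hg k x hx)
    rw [map_sub, sub_add_sub_cancel] at this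
    exact this
  inv_mem' {g} hg := by
    haveI : Finite P.isom := instFiniteIsom
    let S : Submonoid P.isom :=
      { carrier := {g | ∀ k, ∀ x ∈ Fr.Lv (k + 1), (g : V ≃ₗ[F] V) x - x ∈ Fr.Lv k}
        one_mem' := fun k x _ => by simp
        mul_mem' := fun {g h} hg hh k x hx => by
          have := add_mem (iter_step Fr hg (hh k x hx)) (hg k x hx)
          rw [map_sub, sub_add_sub_cancel] at this
          exact this }
    show g⁻¹ ∈ S
    obtain ⟨n, hn⟩ : ∃ n, g⁻¹ = g ^ n := ⟨orderOf g - 1, by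
      rw [inv_eq_iff_mul_eq_one, ← pow_succ', Nat.sub_add_cancel (orderOf_pos g), pow_orderOf_eq_one]⟩
    rw [hn]
    exact pow_mem (hg : g ∈ S) n

variable [Finite F] [FiniteDimensional F V]

theorem mem_U {g : P.isom} :
    g ∈ Fr.U ↔ ∀ k, ∀ x ∈ Fr.Lv (k + 1), (g : V ≃ₗ[F] V) x - x ∈ Fr.Lv k := Iff.rfl

/-- A criterion on the vectors of the frame. -/
theorem mem_U_of {g : P.isom}
    (he : ∀ j : Fin m, (g : V ≃ₗ[F] V) (Fr.e j) - Fr.e j ∈ Fr.C j)
    (hf : ∀ j : Fin m, (g : V ≃ₗ[F] V) (Fr.f j) - Fr.f j ∈ perp P (Fr.C (j + 1)))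
    (hw : ∀ w, Fr.IsW w → (g : V ≃ₗ[F] V) w - w ∈ Fr.C m) : g ∈ Fr.U := by
  intro k x hx
  obtain ⟨d, hd⟩ : ∃ d : V →ₗ[F] V, ∀ y, d y = (g : V ≃ₗ[F] V) y - y :=
    ⟨(g : V ≃ₗ[F] V).toLinearMap - LinearMap.id, fun y => rfl⟩
  rw [← hd]
  have he' : ∀ j : Fin m, d (Fr.e j) ∈ Fr.C j := fun j => by rw [hd]; exact he j
  have hf' : ∀ j : Fin m, d (Fr.f j) ∈ perp P (Fr.C (j + 1)) := fun j => by rw [hd]; exact hf j
  have hw' : d (Fr.pr x) ∈ Fr.C m := by rw [hd]; exact hw _ (Fr.pr_isW x)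
  have e : d x = d (Fr.pr x) + ∑ j, Fr.a j x • d (Fr.e j) + ∑ j, Fr.b j x • d (Fr.f j) := by
    conv_lhs => rw [Fr.expand x]
    simp
  rw [e]
  rcases lt_trichotomy (k + 1) (m + 1) with hk | hk | hk
  · rw [Fr.Lv_of_le (by omega), mem_C_iff] at hx
    rw [hx.1, map_zero, zero_add, Fr.Lv_of_le (by omega)]
    refine add_mem (sum_mem fun j _ => ?_) (sum_mem fun j _ => ?_)
    · by_cases hj : k + 1 ≤ (j : ℕ)
      · rw [hx.2.2 j hj, zero_smul]; exact zero_mem _
      · exact Submodule.smul_mem _ _ (Fr.C_mono (by omega) (he' j))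
    · rw [hx.2.1 j, zero_smul]; exact zero_mem _
  · have hkm : k = m := by omega
    subst hkm
    rw [Fr.Lv_of_lt (by omega), show 2 * k + 1 - (k + 1) = k by omega, mem_perp_C] at hx
    rw [Fr.Lv_of_le le_rfl]
    refine add_mem (add_mem hw' (sum_mem fun j _ => ?_))
      (sum_mem fun j _ => ?_)
    · exact Submodule.smul_mem _ _ (Fr.C_mono (by omega) (he' j))
    · rw [hx j j.2, zero_smul]; exact zero_mem _
  · rw [Fr.Lv_of_lt (by omega), mem_perp_C] at hx
    rw [Fr.Lv_of_lt (by omega)]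
    refine add_mem (add_mem (Fr.C_le_perp m _ hw') (sum_mem fun j _ => ?_))
      (sum_mem fun j _ => ?_)
    · exact Submodule.smul_mem _ _ (Fr.C_le_perp _ _ (he' j))
    · by_cases hj : (j : ℕ) < 2 * m + 1 - (k + 1)
      · rw [hx j hj, zero_smul]; exact zero_mem _
      · exact Submodule.smul_mem _ _ (perp_anti (Fr.C_mono (by omega)) (hf' j))

theorem U_C {g : P.isom} (hg : g ∈ Fr.U) {i : ℕ} {x : V} (hx : x ∈ Fr.C i) :
    (g : V ≃ₗ[F] V) x ∈ Fr.C i := by
  rcases le_or_gt i m with hi | hi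
  · rw [← Fr.Lv_of_le hi] at hx ⊢; exact iter_step Fr hg hx
  · rw [Fr.C_of_le hi.le, ← Fr.Lv_of_le le_rfl] at hx ⊢; exact iter_step Fr hg hx

theorem U_e {g : P.isom} (hg : g ∈ Fr.U) (j : Fin m) :
    (g : V ≃ₗ[F] V) (Fr.e j) - Fr.e j ∈ Fr.C j := by
  have := hg j (Fr.e j) (by rw [Fr.Lv_of_le j.2]; exact Fr.e_mem_C (Nat.lt_succ_self _))
  rwa [Fr.Lv_of_le (le_of_lt j.2)] at this

theorem U_f {g : P.isom} (hg : g ∈ Fr.U) (j : Fin m) :
    (g : V ≃ₗ[F] V) (Fr.f j) - Fr.f j ∈ perp P (Fr.C (j + 1)) := by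
  have := hg (2 * m - j) (Fr.f j) (by
    rw [Fr.Lv_of_lt (by omega), mem_perp_C]
    intro l hl
    rw [b_f, if_neg]
    rintro rfl
    omega)
  rwa [Fr.Lv_of_lt (by omega), show 2 * m + 1 - (2 * m - j) = (j : ℕ) + 1 by omega] at this

theorem U_w {g : P.isom} (hg : g ∈ Fr.U) {w : V} (hw : Fr.IsW w) :
    (g : V ≃ₗ[F] V) w - w ∈ Fr.C m := by
  have := hg m w (by
    rw [Fr.Lv_of_lt (by omega), mem_perp_C]
    exact fun l _ => Fr.b_isW l hw)
  rwa [Fr.Lv_of_le le_rfl] at this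

theorem smul_sp_eq {g : P.isom} {D : Ch P m} {i : ℕ} (hi : i ≤ m) {D' : Submodule F V}
    (hd : finrank F D' = i) (h : ∀ x ∈ D.sp i, (g : V ≃ₗ[F] V) x ∈ D') : (g • D).sp i = D' := by
  rw [Ch.smul_sp]
  refine Submodule.eq_of_le_of_finrank_eq (Submodule.map_le_iff_le_comap.2 h) ?_
  rw [LinearEquiv.finrank_map_eq, D.dim i hi, hd]

theorem U_fix {g : P.isom} (hg : g ∈ Fr.U) : g • Fr.C0 = Fr.C0 :=
  Ch.ext' fun i hi => smul_sp_eq hi (Fr.C0.dim i hi) fun x hx => by
    rw [C0_sp] at hx ⊢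
    exact Fr.U_C hg hx

theorem isPGroup_U (p : ℕ) [Fact p.Prime] [CharP F p] : IsPGroup p Fr.U := by
  intro g
  refine ⟨2 * m + 1, ?_⟩
  obtain ⟨g, hg⟩ := g
  refine Subtype.ext ?_
  show g ^ p ^ (2 * m + 1) = 1
  rcases subsingleton_or_nontrivial V with hV | hV
  · exact Subtype.ext (LinearEquiv.ext fun x => Subsingleton.elim _ _)
  haveI : CharP (Module.End F V) p := charP_of_injective_algebraMap
    (R := F) (A := Module.End F V) (fun a b hab => by
      obtain ⟨v, hv⟩ := exists_ne (0 : V)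
      have := LinearMap.congr_fun hab v
      simp only [Module.algebraMap_end_apply] at this
      exact smul_left_injective F hv this) p
  set T : Module.End F V := (g : V ≃ₗ[F] V).toLinearMap with hT
  have hstep : ∀ n k x, x ∈ Fr.Lv (k + n) → ((T - 1) ^ n) x ∈ Fr.Lv k := by
    intro n
    induction n with
    | zero => intro k x hx; simpa using hx
    | succ n ih =>
      intro k x hx
      rw [pow_succ, Module.End.mul_apply]
      exact ih k _ (hg (k + n) x hx)
  have hnil : (T - 1) ^ (2 * m + 1) = 0 := by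
    refine LinearMap.ext fun x => ?_
    have := hstep (2 * m + 1) 0 x (by rw [Fr.Lv_top (by omega)]; trivial)
    rw [Fr.Lv_of_le (Nat.zero_le _), C_zero, Submodule.mem_bot] at this
    exact this
  have hp : T ^ p ^ (2 * m + 1) = 1 := by
    have h1 := sub_pow_char_pow_of_commute (R := Module.End F V) (p := p) (n := 2 * m + 1)
      (Commute.one_right T)
    rw [one_pow] at h1
    have h2 : (T - 1) ^ p ^ (2 * m + 1) = 0 :=
      pow_eq_zero_of_le ((Nat.lt_pow_self (Fact.out : p.Prime).one_lt).le) hnil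
    rw [h2] at h1
    exact sub_eq_zero.1 h1.symm
  have hcoe : ∀ n : ℕ, ((g ^ n : P.isom) : V ≃ₗ[F] V).toLinearMap = T ^ n := by
    intro n
    induction n with
    | zero => rfl
    | succ n ih => rw [pow_succ, pow_succ, ← ih]; rfl
  refine Subtype.ext (LinearEquiv.toLinearMap_injective ?_)
  rw [hcoe, hp]
  rfl

theorem U_free {g : P.isom} (hg : g ∈ Fr.U) (h : g • Fr.X0 = Fr.X0) : g = 1 := by
  have hop : ∀ j : Fin m, (g : V ≃ₗ[F] V) (Fr.f j) = Fr.f j := by
    intro j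
    have h1 : (g : V ≃ₗ[F] V) (Fr.f j) - Fr.f j ∈ Fr.X0.sp (j + 1) := by
      refine sub_mem ?_ ?_
      · have h2 := Submodule.mem_map_of_mem (f := (g : V ≃ₗ[F] V).toLinearMap)
          (Fr.gen_mem_ch (w := (1, fun _ => true)) (Nat.lt_succ_self (j : ℕ)))
        rw [← Ch.smul_sp] at h2
        rw [h] at h2
        exact h2
      · exact Fr.gen_mem_ch (w := (1, fun _ => true)) (Nat.lt_succ_self _)
    exact sub_eq_zero.1 ((Submodule.mem_bot F).1 ((Fr.X0_opp _ j.2).le ⟨h1, Fr.U_f hg j⟩))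
  have hzero : ∀ y, y ∈ Fr.C m → (∀ j, P.B (Fr.f j) y = 0) → y = 0 := by
    intro y hy hfy
    rw [mem_C_iff] at hy
    rw [Fr.expand y, hy.1]
    simp [hy.2.1, a_apply, hfy]
  have hoe : ∀ j : Fin m, (g : V ≃ₗ[F] V) (Fr.e j) = Fr.e j := fun j =>
    sub_eq_zero.1 (hzero _ (Fr.C_mono (le_of_lt j.2) (Fr.U_e hg j)) fun k => by
      rw [map_sub]
      conv_lhs => arg 1; rw [← hop k, g.2.1]
      exact sub_self _)
  have how : ∀ w, Fr.IsW w → (g : V ≃ₗ[F] V) w = w := fun w hw =>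
    sub_eq_zero.1 (hzero _ (Fr.U_w hg hw) fun k => by
      rw [map_sub]
      conv_lhs => arg 1; rw [← hop k, g.2.1]
      exact sub_self _)
  refine Subtype.ext (LinearEquiv.ext fun x => ?_)
  show (g : V ≃ₗ[F] V) x = x
  conv_lhs => rw [Fr.expand x]
  simp only [map_add, map_sum, map_smul, hop, hoe, how _ (Fr.pr_isW x)]
  exact (Fr.expand x).symm

theorem U_trans {D : Ch P m} (hD : Fr.Opp D) : ∃ g ∈ Fr.U, g • Fr.X0 = D := by
  classical
  -- the new vectors `f'`
  have hf : ∀ j : Fin m, ∃ y ∈ D.sp (j + 1),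
      ∀ l : Fin m, (l : ℕ) < j + 1 → P.B (Fr.e l) y = if l = j then 1 else 0 := by
    intro j
    let φ : D.sp (j + 1) →ₗ[F] ({l : Fin m // (l : ℕ) < j + 1} → F) :=
      LinearMap.pi fun l => (Fr.b l).comp (D.sp (j + 1)).subtype
    have hφ : Function.Injective φ := by
      rw [injective_iff_map_eq_zero]
      intro y hy
      refine Subtype.ext ((Submodule.mem_bot F).1 ((hD _ j.2).le ⟨y.2, ?_⟩))
      exact Fr.mem_perp_C.2 fun l hl => congrFun hy ⟨l, hl⟩
    have hs : Function.Surjective φ := by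
      refine (LinearMap.injective_iff_surjective_of_finrank_eq_finrank ?_).1 hφ
      rw [D.dim _ j.2, Module.finrank_fintype_fun_eq_card, Fintype.card_subtype, Fin.card_filter_val_lt]
      omega
    obtain ⟨y, hy⟩ := hs fun l => if (l : Fin m) = j then 1 else 0
    exact ⟨y, y.2, fun l hl => congrFun hy ⟨l, hl⟩⟩
  choose f' hf'D hf'e using hf
  have hf'ts : ∀ j l, P.B (f' j) (f' l) = 0 := fun j l =>
    (D.ts_at m _ (D.mono j.2 (hf'D j))).2 _ (D.mono l.2 (hf'D l))
  -- the new vectors `e'`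
  have he : ∀ j : Fin m, ∃ y, y - Fr.e j ∈ Fr.C j ∧
      ∀ l : Fin m, (l : ℕ) < j → P.B (f' l) y = 0 := by
    intro j
    let Φ : ({l : Fin m // (l : ℕ) < j} → F) →ₗ[F] V :=
      Fintype.linearCombination F fun l : {l : Fin m // (l : ℕ) < j} => Fr.e l
    have hΦ : ∀ c, Φ c = ∑ l : {l : Fin m // (l : ℕ) < j}, c l • Fr.e l :=
      fun c => Fintype.linearCombination_apply F _ c
    let ψ : ({l : Fin m // (l : ℕ) < j} → F) →ₗ[F] ({l : Fin m // (l : ℕ) < j} → F) :=
      LinearMap.pi fun k => (P.B (f' k)).comp Φ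
    have hψ : Function.Injective ψ := by
      rw [injective_iff_map_eq_zero]
      intro c hc
      by_contra hne
      obtain ⟨l₀, hl₀⟩ := Function.ne_iff.1 hne
      obtain ⟨l, hl, hmax⟩ := Finset.exists_max_image (Finset.univ.filter fun l => c l ≠ 0)
        (fun l : {l : Fin m // (l : ℕ) < j} => (l.1 : ℕ)) ⟨l₀, by simpa using hl₀⟩
      rw [Finset.mem_filter] at hl
      apply hl.2
      have h1 : P.B (f' l) (Φ c) = 0 := congrFun hc l
      rw [hΦ, map_sum, Finset.sum_eq_single_of_mem l (Finset.mem_univ _)] at h1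
      · rw [P.B_smul_right, P.flip, hf'e l.1 l.1 (Nat.lt_succ_self _), if_pos rfl, map_one,
          mul_one, mul_eq_zero] at h1
        exact h1.resolve_right (Fr.eps_ne l.1)
      · intro k _ hkl
        rw [P.B_smul_right]
        by_cases hck : c k = 0
        · rw [hck, zero_mul]
        have hle := hmax k (by simpa using hck)
        rw [P.flip, hf'e l.1 k.1 (by omega), if_neg fun e => hkl (Subtype.ext e), map_zero,
          mul_zero, mul_zero]
    obtain ⟨c, hc⟩ := LinearMap.surjective_of_injective hψ fun k => P.B (f' k) (Fr.e j)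
    refine ⟨Fr.e j - Φ c, ?_, fun l hl => ?_⟩
    · rw [sub_sub_cancel_left, neg_mem_iff, hΦ]
      exact sum_mem fun l _ => Submodule.smul_mem _ _ (Fr.e_mem_C l.2)
    · rw [map_sub, sub_eq_zero]
      exact (congrFun hc ⟨l, hl⟩).symm
  choose e' he'C he'f using he
  have he'm : ∀ j : Fin m, e' j ∈ Fr.C (j + 1) := fun j => by
    have := add_mem (Fr.C_mono (Nat.le_succ _) (he'C j)) (Fr.e_mem_C (Nat.lt_succ_self (j : ℕ)))
    rwa [sub_add_cancel] at this
  have hCf : ∀ (j : Fin m) (y : V), y ∈ Fr.C j → P.B y (f' j) = 0 := by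
    intro j y hy
    refine Submodule.span_induction ?_ (by simp) ?_ ?_ hy
    · rintro _ ⟨l, hl, rfl⟩
      rw [hf'e j l (by rw [Set.mem_ofPred_eq] at hl; omega), if_neg]
      rintro rfl
      exact lt_irrefl _ (Set.mem_ofPred.1 hl)
    · intro u v _ _ hu hv
      rw [map_add, LinearMap.add_apply, hu, hv, add_zero]
    · intro c u _ hu
      rw [P.B_smul_left, hu, mul_zero]
  have hR : Rel P e' f' := by
    refine ⟨fun i => (Fr.C_ts _ _ (he'm i)).1, fun i => (D.ts_at m _ (D.mono i.2 (hf'D i))).1,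
      fun i k => (Fr.C_ts m _ (Fr.C_mono i.2 (he'm i))).2 _ (Fr.C_mono k.2 (he'm k)), hf'ts,
      fun i k => ?_⟩
    rcases lt_trichotomy (k : ℕ) i with hki | hki | hki
    · rw [if_neg fun e => by rw [e] at hki; exact lt_irrefl _ hki]
      exact P.eq_zero_symm (he'f i k hki)
    · obtain rfl : k = i := Fin.ext hki
      rw [if_pos rfl]
      have h := hCf k _ (he'C k)
      rw [map_sub, LinearMap.sub_apply, hf'e k k (Nat.lt_succ_self _), if_pos rfl] at h
      exact sub_eq_zero.1 h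
    · rw [if_neg fun e => by rw [e] at hki; exact lt_irrefl _ hki]
      exact hCf k _ (Fr.C_mono hki (he'm i))
  let θ : V →ₗ[F] V := LinearMap.id - ∑ j, (P.ε⁻¹ • P.B (f' j)).smulRight (e' j)
  have hθ : ∀ w, θ w = w - ∑ j, (P.ε⁻¹ * P.B (f' j) w) • e' j := fun w => by
    simp [θ, LinearMap.sum_apply]
  have hperp : ∀ w, Fr.IsW w → ∀ y ∈ Fr.C m, P.B y w = 0 := fun w hw y hy => by
    refine Submodule.span_induction ?_ (by simp) ?_ ?_ hy
    · rintro _ ⟨l, _, rfl⟩
      exact (hw l).1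
    · intro u v _ _ hu hv
      rw [map_add, LinearMap.add_apply, hu, hv, add_zero]
    · intro c u _ hu
      rw [P.B_smul_left, hu, mul_zero]
  have hθm : ∀ w, θ w - w ∈ Fr.C m := fun w => by
    rw [hθ, sub_sub_cancel_left, neg_mem_iff]
    exact sum_mem fun j _ => Submodule.smul_mem _ _ (Fr.C_mono j.2 (he'm j))
  obtain ⟨g, -, hge, hgf, hgw⟩ := Fr.exists_ext hR θ
    (fun w hw k => by
      refine ⟨?_, ?_⟩
      · rw [hθ, map_sub, hperp w hw _ (Fr.C_mono k.2 (he'm k)), B_sum_right]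
        simp [hR.Bee]
      · rw [hθ, map_sub, B_sum_right]
        have := Fr.eps_ne k
        simp [hR.Bfe]
        field_simp
        ring)
    (fun w w' hw hw' => by
      have h1 : ∀ y ∈ Fr.C m, P.B y w' = 0 := hperp w' hw'
      have h2 : ∀ y ∈ Fr.C m, P.B w y = 0 := fun y hy => P.eq_zero_symm (hperp w hw y hy)
      rw [show θ w = w + (θ w - w) by abel, show θ w' = w' + (θ w' - w') by abel]
      simp only [map_add, LinearMap.add_apply]
      rw [h1 _ (hθm w), h2 _ (hθm w'), (Fr.C_ts m _ (hθm w)).2 _ (hθm w')]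
      ring)
    (fun w hw => by
      rw [show θ w = w + (θ w - w) by abel, N_add_eq P (P.eq_zero_symm (hperp w hw _ (hθm w))),
        (Fr.C_ts m _ (hθm w)).1, add_zero])
  refine ⟨g, Fr.mem_U_of (fun j => hge j ▸ he'C j) (fun j => ?_)
    (fun w hw => hgw w hw ▸ hθm w), Ch.ext' fun i hi => smul_sp_eq hi (D.dim i hi) ?_⟩
  · rw [hgf j, mem_perp_C]
    intro l hl
    rw [map_sub, b_apply, hf'e j l hl, b_f, sub_self]
  · intro x hx
    rw [X0_sp] at hx
    refine Submodule.span_induction ?_ (by simp) ?_ ?_ hx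
    · rintro _ ⟨l, hl, rfl⟩
      rw [hgf]
      exact D.mono (show (l : ℕ) + 1 ≤ i from hl) (hf'D l)
    · intro u v _ _ hu hv
      rw [map_add]; exact add_mem hu hv
    · intro c u _ hu
      rw [map_smul]; exact Submodule.smul_mem _ c hu

/-- An element of `p`-power order fixing the base chamber has trivial scalars on the flag. -/
theorem lead_one (p : ℕ) [Fact p.Prime] [CharP F p] {g : P.isom}
    (hord : ∃ k, orderOf g = p ^ k) (hfix : g • Fr.C0 = Fr.C0) (j : Fin m) :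
    Fr.a j ((g : V ≃ₗ[F] V) (Fr.e j)) = 1 := by
  obtain ⟨k, hk⟩ := hord
  have hC : ∀ i, ∀ x ∈ Fr.C i, (g : V ≃ₗ[F] V) x ∈ Fr.C i := by
    intro i x hx
    have h1 := congrArg (fun D : Ch P m => D.sp i) hfix
    simp only [Ch.smul_sp, C0_sp] at h1
    exact h1.le (Submodule.mem_map_of_mem hx)
  set c := Fr.a j ((g : V ≃ₗ[F] V) (Fr.e j)) with hc
  have hiter : ∀ n : ℕ, ((g ^ n : P.isom) : V ≃ₗ[F] V) (Fr.e j) ∈ Fr.C (j + 1) ∧
      Fr.a j (((g ^ n : P.isom) : V ≃ₗ[F] V) (Fr.e j)) = c ^ n := by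
    intro n
    induction n with
    | zero => exact ⟨Fr.e_mem_C (Nat.lt_succ_self _), by rw [pow_zero, pow_zero]; simp [a_e]⟩
    | succ n ih =>
      rw [pow_succ']
      obtain ⟨y, hy⟩ : ∃ y, y = ((g ^ n : P.isom) : V ≃ₗ[F] V) (Fr.e j) := ⟨_, rfl⟩
      rw [← hy] at ih
      show (g : V ≃ₗ[F] V) (((g ^ n : P.isom) : V ≃ₗ[F] V) (Fr.e j)) ∈ _ ∧ _
      rw [← hy]
      refine ⟨hC _ _ ih.1, ?_⟩
      show Fr.a j ((g : V ≃ₗ[F] V) (((g ^ n : P.isom) : V ≃ₗ[F] V) (Fr.e j))) = _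
      rw [← hy]
      have hrest : y - c ^ n • Fr.e j ∈ Fr.C j := by
        have h1 := ih.1
        rw [mem_C_iff] at h1 ⊢
        refine ⟨by rw [map_sub, map_smul, h1.1, pr_e, smul_zero, sub_zero],
          fun l => by rw [map_sub, map_smul, h1.2.1, b_e, smul_zero, sub_zero], fun l hl => ?_⟩
        rw [map_sub, map_smul, a_e]
        rcases eq_or_ne j l with rfl | hjl
        · rw [ih.2, if_pos rfl, smul_eq_mul, mul_one, sub_self]
        · rw [if_neg hjl, smul_zero, sub_zero, h1.2.2 l]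
          exact Nat.lt_of_le_of_ne hl fun e => hjl (Fin.ext e)
      have h2 := (Fr.mem_C_iff.1 (hC _ _ hrest)).2.2 j le_rfl
      rw [map_sub, map_smul, map_sub, map_smul, ← hc, smul_eq_mul, sub_eq_zero] at h2
      rw [h2, pow_succ]
  have h1 : c ^ p ^ k = 1 := by
    rw [← (hiter _).2, ← hk, pow_orderOf_eq_one]
    simp [a_e]
  have h2 : (c - 1) ^ p ^ k = 0 := by
    rw [sub_pow_char_pow, h1, one_pow, sub_self]
  exact sub_eq_zero.1 (pow_eq_zero_iff (pow_ne_zero _ (Fact.out : p.Prime).ne_zero) |>.1 h2)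

/-- An element fixing the base chamber with trivial scalars and trivial middle part is in `U`. -/
theorem mem_U_of_lead {g : P.isom} (hfix : g • Fr.C0 = Fr.C0)
    (hlead : ∀ j : Fin m, Fr.a j ((g : V ≃ₗ[F] V) (Fr.e j)) = 1)
    (hmid : ∀ w, Fr.IsW w → Fr.pr ((g : V ≃ₗ[F] V) w) = w) : g ∈ Fr.U := by
  have hC : ∀ i, ∀ x ∈ Fr.C i, (g : V ≃ₗ[F] V) x ∈ Fr.C i := by
    intro i x hx
    have h1 := congrArg (fun D : Ch P m => D.sp i) hfix
    simp only [Ch.smul_sp, C0_sp] at h1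
    exact h1.le (Submodule.mem_map_of_mem hx)
  have hP : ∀ i, ∀ x ∈ perp P (Fr.C i), (g : V ≃ₗ[F] V) x ∈ perp P (Fr.C i) := by
    intro i x hx d hd
    have h1 := congrArg (fun D : Ch P m => D.sp i) hfix
    simp only [Ch.smul_sp, C0_sp] at h1
    rw [← h1] at hd
    obtain ⟨d', hd', rfl⟩ := hd
    exact (g.2.1 d' x).trans (hx d' hd')
  have he : ∀ j : Fin m, (g : V ≃ₗ[F] V) (Fr.e j) - Fr.e j ∈ Fr.C j := by
    intro j
    have h1 := hC _ _ (Fr.e_mem_C (Nat.lt_succ_self (j : ℕ)))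
    rw [mem_C_iff] at h1 ⊢
    refine ⟨by rw [map_sub, h1.1, pr_e, sub_zero], fun l => by rw [map_sub, h1.2.1, b_e, sub_zero],
      fun l hl => ?_⟩
    rw [map_sub, a_e]
    rcases eq_or_ne j l with rfl | hjl
    · rw [hlead, if_pos rfl, sub_self]
    · rw [if_neg hjl, sub_zero, h1.2.2 l]
      exact Nat.lt_of_le_of_ne hl fun e => hjl (Fin.ext e)
  refine Fr.mem_U_of he (fun j => ?_) fun w hw => ?_
  · have h1 : (g : V ≃ₗ[F] V) (Fr.f j) ∈ perp P (Fr.C j) := hP _ _ (Fr.mem_perp_C.2 fun l hl => by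
      rw [b_f, if_neg]; rintro rfl; omega)
    refine Fr.mem_perp_C.2 fun l hl => ?_
    rw [map_sub, b_f]
    rcases lt_or_eq_of_le (Nat.lt_succ_iff.1 hl) with h | h
    · rw [Fr.mem_perp_C.1 h1 l h, if_neg (fun e => by rw [e] at h; exact lt_irrefl _ h), sub_zero]
    · obtain rfl : l = j := Fin.ext h
      rw [if_pos rfl, sub_eq_zero]
      have h2 := h1 _ (he l)
      rw [map_sub, LinearMap.sub_apply, g.2.1, Fr.rel.Bef, if_pos rfl, ← b_apply,
        sub_eq_zero] at h2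
      exact h2.symm
  · have h1 : (g : V ≃ₗ[F] V) w ∈ perp P (Fr.C m) :=
      hP _ _ (Fr.mem_perp_C.2 fun l _ => Fr.b_isW l hw)
    refine Fr.mem_C_iff.2 ⟨?_, fun l => ?_, fun l hl => absurd l.2 (not_lt.2 hl)⟩
    · rw [map_sub, hmid w hw, Fr.pr_of_isW hw, sub_self]
    · rw [map_sub, Fr.mem_perp_C.1 h1 l l.2, Fr.b_isW l hw, sub_self]

/-- An element of `p`-power order fixing the base chamber is in `U` if it is trivial on the middle. -/
theorem mem_U_of_fix (p : ℕ) [Fact p.Prime] [CharP F p] {g : P.isom}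
    (hord : ∃ k, orderOf g = p ^ k) (hfix : g • Fr.C0 = Fr.C0)
    (hmid : ∀ w, Fr.IsW w → Fr.pr ((g : V ≃ₗ[F] V) w) = w) : g ∈ Fr.U :=
  Fr.mem_U_of_lead hfix (Fr.lead_one p hord hfix) hmid

end Frame

end Cfsg.Agent.Lib.SteinbergChar
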